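import Cfsg.Agent.INV.SZ5.St3
import Cfsg.Agent.S2901
import Cfsg.Agent.S1762
import Cfsg.Agent.S0243
import Cfsg.Agent.S0280
import Cfsg.Agent.SOLV.CoprimeSylow
import Cfsg.Agent.SOLV.Core
import Cfsg.Agent.SIG.FStar
import Cfsg.Agent.SPOR.LX
import Cfsg.Agent.SPOR.ES2
import Cfsg.Agent.SPOR.He
import Cfsg.Agent.SPOR.GolayM24
import Cfsg.Agent.PERM.L43Z
import Cfsg.Agent.FUS.EssSmall

/-! `O = 1` and the identification with `Suz`. -/

set_option autoImplicit false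
set_option linter.unusedSectionVars false
set_option linter.unusedVariables false

namespace CL.SZ5

open Subgroup CL.MSS Equiv

universe u
variable {G : Type u} [Group G] [Finite G]

namespace Sq

variable (Λ : Sq G)

theorem es : LX.ES Λ.Q (Λ.z 1) := by
  have zQ : Λ.z 1 ∈ Λ.Q := Λ.mem_Q.2 (.inl ⟨Λ.uT .., fun i => by rw [Lz.z, Λ.β_u]; fin_cases i <;> simp⟩)
  refine ⟨zQ, mt Λ.z_eq_one.1 one_ne_zero, Λ.z_sq 1, fun x hx => mem_centralizer_singleton_iff.1 (Λ.Q_le_H hx),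
    fun x hx h => ?_, fun x hx y hy => ?_, fun x hx => Λ.sq_Q hx, Λ.f, mem_sup_right (mem_zpowers _), _, Λ.NI_y.1, fun e => ?_⟩
  · refine (Λ.cenQ fun y hy => (h y hy).symm).imp (fun e => LX.eq_one_of_odd_of_pgroup Λ.Oodd Λ.pQ e hx) fun e => ?_
    rw [eq_inv_of_mul_eq_one_right (LX.eq_one_of_odd_of_pgroup Λ.Oodd Λ.pQ e (mul_mem zQ hx)), Λ.z_inv]
  · refine (Λ.comm_Q hx hy).imp comm_of_cj fun e => ?_
    rw [eq_mul_of_mul_inv_eq e, mul_assoc, mul_assoc, mem_centralizer_singleton_iff.1 (Λ.Q_le_H hx)]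
  · exact absurd (Λ.z_inj ((cj_of_comm e).symm.trans (Λ.act.z F4.w))) (by decide)

omit [Finite G] in
theorem pow_O {o : G} (ho : o ∈ Λ.O) : o ^ Nat.card Λ.O = 1 :=
  orderOf_dvd_iff_pow_eq_one.1 (orderOf_dvd_natCard _ ho)

theorem mem_O {x : G} (hx : x ∈ centralizer (Λ.Q : Set G)) (e : x ^ Nat.card Λ.O = 1) : x ∈ Λ.O :=
  (Λ.cenQ hx).resolve_right fun h => Λ.es.z_ne (by
    have k := Λ.pow_O h
    rw [Commute.mul_pow (hx _ Λ.es.z_mem), e] at k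
    obtain ⟨j, hj⟩ := Λ.Oodd
    simpa [hj, pow_succ, pow_mul, sq, Λ.es.z_sq] using k)

theorem H_O : Λ.H ≤ normalizer (Λ.O : Set G) := fun n hn => mem_normalizer_fintype fun o ho =>
  Λ.mem_O (fun q hq => by
    simpa [mul_assoc] using cm_cj n (Λ.Q_O ((mem_normalizer_iff.1 (inv_mem (Λ.H_le hn)) q).1 hq) ho))
    (by rw [conj_pow, Λ.pow_O ho]; simp)

omit [Finite G] in
theorem z_pow (g : G) : (g * Λ.z 1 * g⁻¹) ^ 2 ^ 1 = 1 := by rw [pow_one, sq]; exact sq_cj g (Λ.z_sq 1)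

theorem bal0 {g : G} (h : ∀ c, g * Λ.z 1 * g⁻¹ * Λ.z c = Λ.z c * (g * Λ.z 1 * g⁻¹)) :
    g ∈ normalizer (Λ.O : Set G) := by
  have a : ∀ x, g * Λ.z 1 * g⁻¹ * x = x * (g * Λ.z 1 * g⁻¹) → g⁻¹ * x * g⁻¹⁻¹ ∈ Λ.H := fun x e =>
    mem_centralizer_singleton_iff.2 (by simpa [mul_assoc] using (cm_cj g⁻¹ e).symm)
  obtain ⟨c, c0, hc⟩ : ∃ c ≠ 0, g⁻¹ * Λ.z c * g⁻¹⁻¹ ∈ centralizer (Λ.O : Set G) := by
    rcases Λ.cenO (a _ (h 1)) (a _ (h F4.w)) (sq_cj _ (Λ.z_sq _)) (sq_cj _ (Λ.z_sq _)) (cm_cj _ (Λ.z_comm ..)) with e | e | e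
    · exact ⟨_, one_ne_zero, e⟩
    · exact ⟨_, by decide, e⟩
    · exact ⟨1 + F4.w, by decide, by rwa [← cj_mul', Λ.z_mul] at e⟩
  obtain ⟨m, hm, -, e⟩ := Bas.conj_z Λ.toLz c0
  have n : ∀ x, x * Λ.z c = Λ.z c * x → x ∈ normalizer ((m •ᶜ Λ.Q : Subgroup G) : Set G) := fun x k => by
    rw [← cj_normalizer, mem_cj]
    refine Λ.H_le (mem_centralizer_singleton_iff.2 ?_)
    simpa [← e, mul_assoc] using cm_cj m⁻¹ k
  have pq : IsPGroup 2 (m •ᶜ Λ.Q : Subgroup G) := isPGroup_cj m Λ.pQ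
  have od : Odd (Nat.card (g •ᶜ Λ.O : Subgroup G)) := by rw [card_cj]; exact Λ.Oodd
  have nO : g •ᶜ Λ.O ≤ normalizer ((m •ᶜ Λ.Q : Subgroup G) : Set G) := fun o ho => n o (by
    simpa [mul_assoc] using cm_cj g (hc _ (mem_cj.1 ho)))
  have k := CL.thompson_p_times_q (p := 2) (zpowers (g * Λ.z 1 * g⁻¹)) (g •ᶜ Λ.O) (m •ᶜ Λ.Q) (pg_zpowers (Λ.z_pow g))
    (Nat.coprime_two_right.2 od) pq (zpowers_le.2 fun o ho => by
      simpa [mul_assoc] using (cm_cj g (Λ.Q_O Λ.es.z_mem (mem_cj.1 ho))).symm) (zpowers_le.2 (n _ (h c))) nO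
    fun x hx o ho => by
      have b : x ∈ normalizer ((g •ᶜ Λ.O : Subgroup G) : Set G) := by
        rw [← cj_normalizer, mem_cj]
        simpa using Λ.H_O (a x (hx.2 _ (mem_zpowers _)))
      have := LX.eq_one_of_odd_of_pgroup od pq (x := o * (x * o⁻¹ * x⁻¹))
        (mul_mem ho ((mem_normalizer_iff.1 b _).1 (inv_mem ho)))
        (by simpa [mul_assoc] using mul_mem ((mem_normalizer_iff.1 (nO ho) _).1 hx.1) (inv_mem hx.1))
      rw [← mul_inv_eq_one, ← this]; group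
  refine mem_normalizer_fintype fun o ho => ?_
  have := Λ.mem_O (x := m⁻¹ * (g * o * g⁻¹) * m⁻¹⁻¹) (fun q hq => by
    simpa [mul_assoc] using (cm_cj m⁻¹ (k (conj_mem_cj (g := m) hq) _ (conj_mem_cj (g := g) ho))).symm)
    (by rw [conj_pow, conj_pow, Λ.pow_O ho]; simp)
  rw [← Λ.conj_K (Λ.OK this) hm] at this
  simpa [mul_assoc] using this

/-- PROOF. (Pattern: `INV/CO1/Fin`.) `H ≤ N(O)` (`H_le`, `cenQ`). `s = g (z 1) g⁻¹` centralises some `NI x`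
(`exists_NI`), and by `trans` we may assume that `s` centralises `Y`. `cenO` in the frame `g`: some `y' = z c`,
`c ≠ 0`, centralises `O' = g O g⁻¹`. `y' = k (z 1) k⁻¹`, `k = h ^ i ∈ C(O)`, `Q' = k Q k⁻¹` is normalised by `C(y')`.
`⟨s⟩ × O'` acts on `Q'`, `C_{Q'}(s) ≤ C(s)` normalises `O'`, so `[O', C_{Q'}(s)] ≤ O' ⊓ Q' = 1`;
`CL.thompson_p_times_q` gives `O' ≤ C(Q')`, so `O' ≤ k O k⁻¹ = O` (`cenQ`). -/
theorem bal {g : G} (h : g * Λ.z 1 * g⁻¹ ∈ Λ.H) : g ∈ normalizer (Λ.O : Set G) := by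
  obtain ⟨x, hx, e⟩ := Λ.exists_NI (Λ.H_le h) h (sq_cj g (Λ.z_sq 1))
  obtain ⟨n, -, hn, -, rfl⟩ := Λ.trans hx
  have a := cm_cj n⁻¹ e
  have b := cm_cj n⁻¹ (mem_centralizer_singleton_iff.1 h)
  rw [cj_cj, cj_cj, inv_mul_cancel, one_mul, inv_one, mul_one] at a
  rw [cj_cj, cj_of_comm (mem_centralizer_singleton_iff.1 (inv_mem hn))] at b
  have := mul_mem (Λ.H_O hn) (Λ.bal0 (g := n⁻¹ * g) fun c => ?_)
  · rwa [mul_inv_cancel_left] at this
  have k : c = 0 ∨ c = 1 ∨ c = F4.w ∨ c = 1 + F4.w := by revert c; decide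
  rcases k with rfl | rfl | rfl | rfl
  · rw [Λ.z_eq_one.2 rfl, mul_one, one_mul]
  · exact b
  · exact a
  · rw [← Λ.z_mul, ← mul_assoc, b, mul_assoc, a, ← mul_assoc]

theorem exists_syl : ∃ T, SylIn 2 T ⊤ ∧ Λ.z 1 ∈ T ∧ T ≤ Λ.H := by
  obtain ⟨T, hT, QT⟩ := exists_sylIn_ge Λ.pQ Λ.Q_le_H
  refine ⟨T, hT.of_normalizer_le le_top fun n hn => mem_centralizer_singleton_iff.2 ?_, QT Λ.es.z_mem, hT.le⟩
  rcases Λ.cenQ (s := n * Λ.z 1 * n⁻¹) (fun q hq => by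
    simpa [mul_assoc] using cm_cj n (mem_centralizer_singleton_iff.1
      (hT.le ((mem_normalizer_iff.1 (inv_mem hn.2) q).1 (QT hq))))) with e | e
  · exact absurd (LX.eq_one_of_odd_of_two Λ.Oodd e (Λ.z_pow n)) (cj_ne n Λ.es.z_ne)
  · exact comm_of_cj ((eq_inv_of_mul_eq_one_right (LX.eq_one_of_odd_of_pgroup Λ.Oodd hT.pgroup e
      (mul_mem (QT Λ.es.z_mem) ((mem_normalizer_iff.1 hn.2 _).1 (QT Λ.es.z_mem))))).trans (Λ.z_inv 1))

omit [Finite G] in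
theorem s4 : ∀ x y : Equiv.Perm (Fin 4), x * x = 1 → x * y = y * x → x = 1 ∨ y ^ 2 ^ 2 = 1 := by
  decide +kernel

/-- PROOF. Holt (`S2901`) with `P = N(O)`, as `CL.Co1S.XS.O_eq_bot` in `INV/CO1/Fin`; `L ≤ C(O)` is not 2-closed
(`n false` does not normalise `U`), and an alternating group containing `L` is simple. -/
theorem O_eq_bot [IsSimpleGroup G] : Λ.O = ⊥ := by
  by_contra hO
  obtain ⟨⟨o, ho⟩, o1⟩ := ne_bot_iff_exists_ne_one.1 hO
  have o1 : o ≠ 1 := fun e => o1 (Subtype.ext e)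
  have zO : Λ.z 1 ∉ Λ.O := fun e => Λ.es.z_ne (LX.eq_one_of_odd_of_pgroup Λ.Oodd Λ.pQ e Λ.es.z_mem)
  have nz := Λ.H_O
  obtain ⟨T, hT, zT, Tz⟩ := Λ.exists_syl
  rcases Cfsg.Agent.S2901.result (K := G)
    (fun c => let ⟨x, _, y, _, n⟩ := Λ.es.nonab; n (mul_comm' x y))
    (normalizer (Λ.O : Set G)) (fun c => by
      rcases (normalizer_eq_top_iff.1 c).eq_bot_or_eq_top with e | e
      exacts [hO e, zO (e ▸ mem_top _)]) (Λ.z 1) (nz (Tz zT))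
    ⟨Λ.es.orderOf_z, hT.toSylowTop, zT, fun y hy => mem_centralizer_singleton_iff.1 (Tz hy)⟩ nz
    (fun g hg => ⟨g, by
      obtain ⟨q, hq, e⟩ := (hT.of_le (Tz.trans nz) le_top).exists_conj_le (R := zpowers (g * Λ.z 1 * g⁻¹))
        (pg_zpowers (Λ.z_pow g)) (zpowers_le.2 hg)
      have h1 : q * g * Λ.z 1 * (q * g)⁻¹ ∈ T := by
        convert e (conj_mem_cj (mem_zpowers _)) using 1; group
      have := mul_mem (inv_mem hq) (Λ.bal (Tz h1))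
      rwa [inv_mul_cancel_left] at this, rfl⟩) with ⟨-, R, hR⟩ | ⟨n, hn5, -, ⟨e⟩⟩
  · have NR : Λ.L ≤ normalizer ((R : Subgroup G) : Set G) := fun l hl =>
      hR ▸ centralizer_le_normalizer _ fun o ho => Λ.comm (Λ.OK ho) hl
    obtain ⟨k, e⟩ := pow_two_of_mem R.isPGroup' (Λ.le_of_gen (fun a b c => (sylIn_top R).le_of_normalizes Λ.pU le_top
      (Λ.U_le_L.trans NR) (Λ.u_mem a b c)) (fun i => NR (Λ.nL i)) Λ.hL)
    have h1 : Λ.h = 1 := orderOf_eq_one_iff.1 (Nat.eq_one_of_dvd_coprimes ((by decide : Nat.Coprime 2 3).pow_left k)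
      (orderOf_dvd_of_pow_eq_one e) (orderOf_dvd_of_pow_eq_one (by rw [pow_three', Λ.h3])))
    exact absurd (Λ.z_inj (by simpa [h1] using Λ.hz 1 : Λ.z 1 = Λ.z F4.w)) (by decide)
  set P := normalizer (Λ.O : Set G)
  let o' : P := ⟨o, le_normalizer ho⟩
  let z' : P := ⟨Λ.z 1, nz (Tz zT)⟩
  by_cases n6 : 5 ≤ n - 1
  · have hA := alternatingGroup.isSimpleGroup (α := Fin (n - 1)) (by simpa using n6)
    have hP' : IsSimpleGroup P := e.isSimpleGroup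
    rcases (normal_in_normalizer (H := Λ.O)).eq_bot_or_eq_top with c | c
    · have : o' ∈ Λ.O.subgroupOf P := ho
      rw [c, mem_bot] at this
      exact o1 (congrArg Subtype.val this)
    · exact zO (subgroupOf_eq_top.1 c z'.2)
  obtain rfl : n = 5 := by omega
  have a1 : z' * z' = 1 := Subtype.ext Λ.es.z_sq
  have a2 : z' * o' = o' * z' := Subtype.ext (Λ.Q_O Λ.es.z_mem ho)
  rcases s4 (e z') (e o') (by rw [← coe_mul, ← map_mul, a1, map_one, coe_one])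
    (by rw [← coe_mul, ← map_mul, a2, map_mul, coe_mul]) with c | c
  · have : z' = 1 := e.injective (Subtype.ext (by rw [map_one]; exact c))
    exact Λ.es.z_ne (congrArg Subtype.val this)
  · have : o' ^ 2 ^ 2 = 1 := e.injective (Subtype.ext (by rw [map_one, map_pow]; exact c))
    exact o1 (LX.eq_one_of_odd_of_two Λ.Oodd ho (congrArg Subtype.val this))

include Λ in
theorem dvd_card : 2 ^ 11 ∣ Nat.card G := by
  have p : IsPGroup 2 (Λ.T ⊔ zpowers (Λ.w1 1) : Subgroup G) := Co.pT.to_sup_of_normal_left'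
    (pg_zpowers (n := 1) (by rw [pow_one, sq, Λ.w1_mul, add_self, Co.w1, Lz.w, Λ.y_zero]; simp)) (zpowers_le.2 (Λ.w1_norm 1))
  obtain ⟨k, hk⟩ := p.exists_card_eq
  have : Nat.card Λ.T < Nat.card (Λ.T ⊔ zpowers (Λ.w1 1) : Subgroup G) := not_le.1 fun e => absurd ((Λ.act_T
    ((eq_of_le_of_card_ge le_sup_left e).ge (mem_sup_right (mem_zpowers _)))).unique (Λ.act_w1 1)).1 (by decide)
  rw [Λ.card_T, hk] at this
  exact (pow_dvd_pow 2 ((Nat.pow_lt_pow_iff_right (n := 10) (m := k) one_lt_two).1 this)).trans (hk ▸ card_subgroup_dvd_card _)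

include Λ in
/-- PROOF. `C(Q) = ⟨z⟩`; `F*(H) = Q` (`eq_Q` for `O₂(H)`; components and the odd part of the Fitting subgroup
centralise `Q`); `Q` is extraspecial of order `2⁷`; `S1762`. `P₁ ⊔ T` has order divisible by `2¹¹` (`T ⊔ ⟨w1 1⟩`),
which does not divide the orders of `L₅(2)`, `U₅(2)`, `M₂₄`, `He`. -/
theorem isoSuz [IsSimpleGroup G] (hG : ¬ IsMulCommutative G) : Cfsg.Spor.IsoSuz G := by
  have pq := isPGroup_subgroupOf Λ.pQ Λ.H
  have hn : (Λ.Q.subgroupOf Λ.H).Normal := normal_subgroupOf_of_le_normalizer Λ.H_le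
  have f : Cfsg.generalizedFittingSubgroup Λ.H = Λ.Q.subgroupOf Λ.H := by
    rw [CL.Comp.fstar_eq_pCore_of_centralizer_le pq fun x hx => ?_]
    · refine le_antisymm (map_le_iff_le_comap.1 (Λ.eq_Q ((CL.isPGroup_pCore 2 _).map _) (fun q hq =>
        ⟨⟨q, Λ.Q_le_H hq⟩, CL.le_pCore pq hq, rfl⟩) (map_subtype_le _) fun a ha => mem_normalizer_fintype ?_).le) (CL.le_pCore pq)
      rintro _ ⟨b, hb, rfl⟩
      exact ⟨_, Normal.conj_mem inferInstance b hb ⟨a, ha⟩, rfl⟩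
    · rcases Λ.cenQ (s := x) (fun q hq => congrArg Subtype.val (hx ⟨q, Λ.Q_le_H hq⟩ hq)) with e | e <;>
        rw [Λ.O_eq_bot, mem_bot] at e
      · exact mem_subgroupOf.2 (e ▸ one_mem _)
      · exact mem_subgroupOf.2 (eq_inv_of_mul_eq_one_right e ▸ inv_mem Λ.es.z_mem)
  have i := subgroupOfEquivOfLe Λ.Q_le_H
  have x : Cfsg.IsExtraspecial 2 (Λ.Q.subgroupOf Λ.H) := CL.EssSm.isExtraspecial_congr i.symm Λ.es.isExtraspecial
  have d := Λ.dvd_card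
  rcases Cfsg.Agent.S1762.result hG (Λ.z 1) Λ.es.orderOf_z (f ▸ L43.sympl_of_extraspecial x) (f ▸ x)
    (f ▸ (Nat.card_congr i.toEquiv).trans Λ.card_Q) with ⟨F, _, _, hF, ⟨a⟩⟩ | ⟨F, _, _, hF, ⟨a⟩⟩ | ⟨⟨a⟩⟩ | ⟨⟨a⟩⟩ | a
  · have := Cfsg.Agent.S0243.result hF 5 (by decide)
    rw [← Nat.card_congr a.toEquiv] at this
    simp [Fin.prod_univ_five] at this
    exact absurd (this ▸ d) (by decide)
  · have := Cfsg.Agent.S0280.result (q := 2) hF 5 (by decide)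
    rw [← Nat.card_congr a.toEquiv] at this
    simp [Finset.prod_range_succ, Nat.even_iff] at this
    omega
  · exact absurd (((Nat.card_congr a.toEquiv).trans CL.Golay.card_M24) ▸ d) (by decide)
  · exact absurd (((Nat.card_congr a.toEquiv).trans CL.He.card) ▸ d) (by decide)
  · exact a

end Sq

end CL.SZ5
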