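import Cfsg.Agent.INV.SZ5.Bas

/-! Elements centralising `U` and moving `R`; the group `P`. -/

set_option autoImplicit false
set_option linter.unusedSectionVars false
set_option linter.unusedVariables false

namespace CL.SZ5

open Subgroup CL.MSS

universe u
variable {G : Type u} [Group G] [Finite G]

namespace Pw

open Bas

omit [Finite G] in
theorem exR (Λ : El G) : ∃ r ∈ Λ.R, r ≠ 1 := by
  by_contra hc
  push Not at hc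
  exact Λ.R1 ((eq_bot_iff_forall _).2 hc)

omit [Finite G] in
theorem ru (Λ : El G) {r : G} (hr : r ∈ Λ.R) (a b c : F4) : r * Λ.u a b c = Λ.u a b c * r :=
  Λ.comm (Λ.RK.le hr) (Λ.uL ..)

omit [Finite G] in
theorem O_pow (Λ : El G) {o : G} (ho : o ∈ Λ.O) : o ^ Nat.card Λ.O = 1 :=
  congrArg Subtype.val (pow_card_eq_one' (x := (⟨o, ho⟩ : Λ.O)))

omit [Finite G] in
theorem O_two (Λ : El G) {o : G} (ho : o ∈ Λ.O) {k : ℕ} (e : o ^ 2 ^ k = 1) : o = 1 :=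
  orderOf_eq_one_iff.1 (Nat.eq_one_of_dvd_coprimes (Nat.Coprime.pow_left k (Nat.coprime_two_left.2 Λ.Oodd))
    (orderOf_dvd_of_pow_eq_one e) (orderOf_dvd_of_pow_eq_one (O_pow Λ ho)))

theorem odd_pow (y : G) : ∃ m k : ℕ, (y ^ (2 * m + 1)) ^ 2 ^ k = 1 := by
  obtain ⟨k, m, hm, e⟩ := Nat.exists_eq_two_pow_mul_odd (orderOf_pos y).ne'
  obtain ⟨j, rfl⟩ := hm
  exact ⟨j, k, by rw [← pow_mul, mul_comm, ← e, pow_orderOf_eq_one]⟩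

omit [Finite G] in
theorem cj_act (Γ : Lz G) {m x r v : G} (hm : m ∈ Γ.L) (hr : r ∈ Γ.K) (e : x * r * x⁻¹ = r * v) :
    m * x * m⁻¹ * r * (m * x * m⁻¹)⁻¹ = r * (m * v * m⁻¹) := by
  conv_lhs => rw [← Γ.conj_K hr hm]
  rw [← Γ.conj_ka hr hm, ← e]; group

omit [Finite G] in
theorem cj_cen {X : Subgroup G} {m x : G} (hm : m ∈ normalizer (X : Set G)) (e : ∀ a ∈ X, x * a = a * x) :
    ∀ a ∈ X, m * x * m⁻¹ * a = a * (m * x * m⁻¹) := fun a ha => by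
  have := cm_cj m (e _ ((mem_normalizer_iff''.1 hm a).1 ha))
  rwa [show m * (m⁻¹ * a * m) * m⁻¹ = a by group] at this

omit [Finite G] in
theorem cenU_iff (Γ : Lz G) {x : G} : (∀ a ∈ Γ.U, x * a = a * x) ↔ ∀ a b c, x * Γ.u a b c = Γ.u a b c * x :=
  ⟨fun h a b c => h _ (Γ.u_mem a b c), fun h _ ⟨a, b, c, e⟩ => e ▸ h a b c⟩

omit [Finite G] in
theorem cenV_iff (Γ : Lz G) {x : G} : (∀ a ∈ Γ.V, x * a = a * x) ↔ ∀ a c, x * Γ.u a 0 c = Γ.u a 0 c * x :=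
  ⟨fun h a c => h _ (Γ.v_mem a c), fun h _ ⟨a, c, e⟩ => e ▸ h a c⟩

omit [Finite G] in
theorem memJ (Λ : El G) {g : G} (hg : g ∈ Λ.R ⊔ Λ.U) : ∃ r ∈ Λ.R, ∃ a b c, Λ.x * g * Λ.x⁻¹ = r * Λ.u a b c := by
  obtain ⟨r, hr, _, ⟨a, b, c, rfl⟩, e⟩ := (Λ.mem_sup Λ.RK.le Λ.U_le_L).1 ((mem_normalizer_iff.1 Λ.xJ _).1 hg)
  exact ⟨r, hr, a, b, c, e⟩

omit [Finite G] in
theorem xR (Λ : El G) {r : G} (hr : r ∈ Λ.R) : ∃ r' ∈ Λ.R, ∃ c, Λ.x * r * Λ.x⁻¹ = r' * Λ.z c := by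
  obtain ⟨r', hr', a, b, c, e⟩ := memJ Λ (mem_sup_left hr)
  have h1 := cj_cen (x := r) Λ.xJ fun g hg => by
    obtain ⟨s, hs, l, hl, rfl⟩ := (Λ.mem_sup Λ.RK.le Λ.U_le_L).1 hg
    exact Commute.mul_right (comm_of_sq Λ.Rsq hr hs) (Λ.comm (Λ.RK.le hr) (Λ.U_le_L hl))
  have hd := cen_U' Λ.toLz (a := a) (b := b) (c := c) fun a' b' c' => by
    have := h1 _ (mem_sup_right (Λ.u_mem a' b' c'))
    rwa [e, ← mul_assoc, ← ru Λ hr', mul_assoc, mul_assoc, mul_right_inj] at this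
  exact ⟨r', hr', c, by rw [e, hd]⟩

theorem xR' (Λ : El G) {r : G} (hr : r ∈ Λ.R) :
    ∃ r' ∈ Λ.R, ∃ c, (r ≠ 1 → c ≠ 0) ∧ Λ.x * r' * Λ.x⁻¹ = r * Λ.z c := by
  choose ρ hρ μ hμ using fun r : Λ.R => xR Λ r.2
  have inj : Function.Injective fun r : Λ.R => (⟨ρ r, hρ r⟩ : Λ.R) := fun r r' e => by
    have e1 : ρ r = ρ r' := congrArg Subtype.val e
    have := Λ.noA _ (Λ.RK.le (mul_mem r.2 r'.2)) (Λ.Rsq _ (mul_mem r.2 r'.2)) Λ.x (by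
      rw [cj_mul', hμ, hμ, e1, Λ.mul_mul _ _ (Λ.RK.le (hρ r')) (Λ.uL ..), Λ.Rsq _ (hρ r'), one_mul]
      exact mul_mem (Λ.uL ..) (Λ.uL ..))
    exact Subtype.ext ((eq_inv_of_mul_eq_one_left this).trans (inv_of_sq (Λ.Rsq _ r'.2)))
  obtain ⟨r', e⟩ := Finite.injective_iff_surjective.1 inj ⟨r, hr⟩
  have e1 : ρ r' = r := congrArg Subtype.val e
  refine ⟨r', r'.2, μ r', fun h1 h0 => Λ.xN ?_, by rw [hμ, e1]⟩
  have e2 := hμ r'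
  rw [h0, Λ.z_eq_one.2 rfl, mul_one, e1] at e2
  exact Λ.tight _ (Λ.RK.le r'.2) (Λ.Rsq _ r'.2) (fun h => h1 (by rw [← e2, h]; group)) _ (e2 ▸ Λ.RK.le hr)

theorem xU (Λ : El G) : Λ.x ∈ normalizer (Λ.U : Set G) := by
  have key : ∀ v ∈ Λ.U, v * v = 1 → Λ.x * v * Λ.x⁻¹ ∈ Λ.U := fun v hv v2 => by
    by_cases v1 : v = 1
    · rw [v1, mul_one, mul_inv_cancel]; exact one_mem _
    obtain ⟨r, hr, a, b, c, e⟩ := memJ Λ (mem_sup_right hv)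
    by_cases r1 : r = 1
    · rw [e, r1, one_mul]; exact Λ.u_mem ..
    obtain ⟨m, -, hm⟩ := Λ.inv_conj (Λ.U_le_L hv) v2 v1
    refine absurd (Lz.Ap.cj (isConj_iff.2 ⟨m, hm⟩) Λ.x) (Λ.not_Ap ?_)
    have k1 := sq_cj Λ.x v2
    rw [e] at k1 ⊢
    by_cases u1 : Λ.u a b c = 1
    · rw [u1, mul_one]; exact ⟨Λ.Rsq r hr, r1, 1, by simpa using Λ.RK.le hr⟩
    obtain ⟨m1, hm1, e1⟩ := Λ.inv_conj (Λ.uL ..) ((Λ.sq_iff (Λ.RK.le hr) (Λ.u_mem ..)).1 k1).2 u1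
    obtain ⟨r', hr', d, hd, e2⟩ := xR' Λ hr
    obtain ⟨m2, hm2, -, e3⟩ := conj_z Λ.toLz (hd r1)
    have k2 : Λ.Kp r' := ⟨Λ.Rsq _ hr', fun h => r1 (Λ.ext (Λ.RK.le hr) (one_mem _) (Λ.u_mem 0 0 d) (one_mem _)
      (by rw [← e2, h]; group)).1, 1, by simpa using Λ.RK.le hr'⟩
    have k3 := (k2.cj Λ.x).cj (m1 * m2⁻¹)
    rwa [e2, Λ.conj_ka (Λ.RK.le hr) (mul_mem hm1 (inv_mem hm2)), ← e3,
      show m1 * m2⁻¹ * (m2 * Λ.z 1 * m2⁻¹) * (m1 * m2⁻¹)⁻¹ = m1 * Λ.z 1 * m1⁻¹ by group, e1] at k3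
  refine norm_U_of _ fun a b c => ?_
  rw [u_split, cj_mul']
  exact mul_mem (key _ (Λ.u_mem ..) (by rw [Λ.u_sq, zero_mul]; exact Λ.u_zero)) (key _ (Λ.u_mem ..) (Λ.v_sq ..))

theorem exh (Λ : El G) : ∃ h' : G, h' * h' * h' = 1 ∧
    (∀ a b c, ∃ d, h' * Λ.u a b c * h'⁻¹ = Λ.u (F4.v * a) (F4.v * b) d) ∧
    ∀ r ∈ Λ.R, ∃ c, (r ≠ 1 → c ≠ 0) ∧ h' * (r * Λ.z c) * h'⁻¹ = r * Λ.z c := by
  obtain ⟨s, σ, α, β, T⟩ := Λ.exists_ty (xU Λ)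
  obtain ⟨k, hk, k3, t, ht, hu⟩ : ∃ k ∈ Λ.L, k * k * k = 1 ∧ ∃ t, fr σ t = F4.v ∧
      ∀ a b c, ∃ d, k * Λ.u a b c * k⁻¹ = Λ.u (t * a) (t * b) d := by
    cases σ
    · exact ⟨Λ.h, Λ.hL, Λ.h3, F4.v, rfl, fun a b c => ⟨_, Λ.hu a b c⟩⟩
    · refine ⟨Λ.h * Λ.h, mul_mem Λ.hL Λ.hL, ?_, F4.w, rfl, fun a b c => ⟨F4.w * (F4.w * c), ?_⟩⟩
      · rw [← Λ.h_inv, ← mul_inv_rev, ← mul_inv_rev, ← mul_assoc, Λ.h3, inv_one]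
      · rw [← cj_cj, Λ.hu, Λ.hu, ← mul_assoc, ← mul_assoc F4.v]; rfl
  refine ⟨Λ.x * k * Λ.x⁻¹, by rw [← cj_mul', ← cj_mul', k3]; group, fun a b c => ?_, fun r hr => ?_⟩
  · obtain ⟨a', b', c', e⟩ := (mem_normalizer_iff''.1 (xU Λ) _).1 (Λ.u_mem a b c)
    obtain ⟨d1, e1⟩ := T.u a' b' c'
    obtain ⟨d2, e2⟩ := hu a' b' c'
    obtain ⟨d3, e3⟩ := T.u (t * a') (t * b') d2
    refine ⟨d3, ?_⟩
    rw [← e, show Λ.x * (Λ.x⁻¹ * Λ.u a b c * Λ.x) * Λ.x⁻¹ = Λ.u a b c by group] at e1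
    rw [← e2, ← e, fr_mul, fr_mul, ht] at e3
    refine Eq.trans (by group) (e3.trans ?_)
    cases s <;> obtain ⟨h1, h2, -⟩ := Λ.u_inj e1 <;> rw [h1, h2] <;> exact Λ.u_congr (by ring) (by ring) rfl
  · obtain ⟨r', hr', c, hc, e⟩ := xR' Λ hr
    refine ⟨c, hc, ?_⟩
    rw [← e]
    exact cj_of_comm (cm_cj _ (Λ.comm (Λ.RK.le hr') hk).symm)

omit [Finite G] in
theorem lin (Γ : Lz G) {d : G} (hz : ∀ c, d * Γ.z c * d⁻¹ = Γ.z c) (hu : ∀ a, ∃ e, d * Γ.u a 0 0 * d⁻¹ = Γ.u a 0 e)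
    (h3 : d * Γ.h * (d * Γ.h) * (d * Γ.h) = 1) : ∃ e, ∀ a, d * Γ.u a 0 0 * d⁻¹ = Γ.u a 0 (a * e) := by
  choose φ hφ using hu
  have h1 : ∀ a c, d * Γ.u a 0 c * d⁻¹ = Γ.u a 0 (φ a + c) := fun a c => by
    rw [← Γ.u_mul_z, ← hφ, ← hz, ← cj_mul', Γ.u_mul_z, zero_add]
  have h2 : ∀ a c, d * Γ.h * Γ.u a 0 c * (d * Γ.h)⁻¹ = Γ.u (F4.v * a) 0 (φ (F4.v * a) + F4.w * c) := fun a c => by
    rw [← cj_cj, Γ.hu, mul_zero, h1]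
  have h4 : ∀ a b, φ (a + b) = φ a + φ b := fun a b => by
    have := cj_mul' d (Γ.u a 0 0) (Γ.u b 0 0)
    rw [Γ.v_mul, add_zero, hφ, hφ, hφ, Γ.v_mul] at this
    exact (Γ.u_inj this).2.2
  have h5 : Γ.u 1 0 0 = d * Γ.h * (d * Γ.h * (d * Γ.h * Γ.u 1 0 0 * (d * Γ.h)⁻¹) * (d * Γ.h)⁻¹) * (d * Γ.h)⁻¹ := by
    rw [cj_cj, cj_cj, h3]; group
  rw [h2, h2, h2] at h5
  have h6 : 0 = φ 1 + F4.w * (φ F4.w + F4.w * (φ F4.v + F4.w * 0)) := (Γ.u_inj h5).2.2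
  have h7 : φ F4.v = φ F4.w + φ 1 := h4 F4.w 1
  have h8 : φ 0 = 0 := by simpa using h4 0 0
  have key : ∀ p q r : F4, 0 = p + F4.w * (q + F4.w * (r + F4.w * 0)) → r = q + p → q = F4.w * p ∧ r = F4.v * p := by
    decide
  obtain ⟨k1, k2⟩ := key _ _ _ h6 h7
  refine ⟨φ 1, fun a => (hφ a).trans (Γ.u_congr rfl rfl ?_)⟩
  cases a
  exacts [h8.trans (zero_mul _).symm, (one_mul _).symm, k1, k2]

theorem exm (Λ : El G) : ∃ m : G, (∀ a b c, m * Λ.u a b c = Λ.u a b c * m) ∧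
    ∀ r ∈ Λ.R, ∃ c, (r ≠ 1 → c ≠ 0) ∧ m * r * m⁻¹ = r * Λ.z c := by
  obtain ⟨h', h3, hu, hr⟩ := exh Λ
  have hz' : ∀ c, h' * Λ.z c * h'⁻¹ = Λ.z (F4.w * c) := fun c => by
    obtain ⟨d, hd⟩ := hu 1 c 0
    have := Λ.u_sq 1 c 0
    rw [one_mul] at this
    rw [← this, cj_mul', hd, Λ.u_sq]
    exact congrArg _ (by clear hd this; revert c; decide)
  have du : ∀ a b c, ∃ d, h' * Λ.h⁻¹ * Λ.u a b c * (h' * Λ.h⁻¹)⁻¹ = Λ.u a b d := fun a b c => by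
    obtain ⟨d, hd⟩ := hu (F4.w * a) (F4.w * b) (F4.v * c)
    rw [← hu', ← mul_assoc F4.v, ← mul_assoc F4.v, show F4.v * F4.w = 1 from rfl, one_mul, one_mul] at hd
    exact ⟨d, by rw [← hd]; group⟩
  have dz : ∀ c, h' * Λ.h⁻¹ * Λ.z c * (h' * Λ.h⁻¹)⁻¹ = Λ.z c := fun c => by
    obtain ⟨d, hd⟩ := du 1 c 0
    have := Λ.u_sq 1 c d
    rw [← hd, ← cj_mul', Λ.u_sq, one_mul] at this
    exact this
  have d3 : h' * Λ.h⁻¹ * Λ.h * (h' * Λ.h⁻¹ * Λ.h) * (h' * Λ.h⁻¹ * Λ.h) = 1 := by simpa using h3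
  obtain ⟨e, h1⟩ := lin Λ.toLz dz (fun a => du a 0 0) d3
  obtain ⟨e', h2⟩ := lin Λ.toLz.sw (d := h' * Λ.h⁻¹) (fun c => by simpa only [Λ.sw_z] using dz c)
    (fun a => by simpa only [Lz.sw_v] using du 0 a 0) d3
  simp only [Lz.sw_v] at h2
  refine ⟨(Λ.u e' e 0)⁻¹ * (h' * Λ.h⁻¹), fun a b c => ?_, fun r hR => ?_⟩
  · apply comm_of_cj
    have : h' * Λ.h⁻¹ * Λ.u a b c * (h' * Λ.h⁻¹)⁻¹ = Λ.u e' e 0 * Λ.u a b c * (Λ.u e' e 0)⁻¹ := by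
      rw [Λ.u_conj, u_split _ a b c, ← zero_add c, ← Λ.u_mul_z, cj_mul', cj_mul', h1, h2, dz, Λ.u_mul_z, Λ.u_mul]
      exact Λ.u_congr (zero_add _) (add_zero _) (by ring)
    rw [← cj_cj, this]; group
  · obtain ⟨c, hc, e1⟩ := hr r hR
    refine ⟨c + F4.w * c, fun h => (by decide : ∀ c : F4, c ≠ 0 → c + F4.w * c ≠ 0) c (hc h), ?_⟩
    rw [cj_mul', hz', ← eq_mul_inv_iff_mul_eq, Λ.z_inv, mul_assoc r, Λ.z_mul] at e1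
    rw [← cj_cj, ← cj_cj, Λ.conj_K (Λ.RK.le hR) (inv_mem Λ.hL), e1, Λ.conj_ka (Λ.RK.le hR) (inv_mem (Λ.uL ..)),
      cj_of_comm (Commute.inv_left (Λ.z_comm ..).symm)]

end Pw

open Pw Bas

namespace El

variable (Λ : El G)

/-- PROOF. `g ∈ N` (`cen_le_N` with an involution of `R`), `cenV`: `g = k v`, `k ∈ C_K(R)`, `cenR`. -/
theorem cenRV {g : G} (hR : ∀ r ∈ Λ.R, g * r = r * g) (hV : ∀ a c, g * Λ.u a 0 c = Λ.u a 0 c * g) :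
    ∃ r ∈ Λ.R, ∃ a c, ∃ o ∈ Λ.O, g = r * Λ.u a 0 c * o := by
  obtain ⟨r₀, hr₀, h1⟩ := exR Λ
  obtain ⟨k, hk, a, c, rfl⟩ := Λ.cenV (Λ.cen_le_N (Λ.RK.le hr₀) (Λ.Rsq _ hr₀) h1 (hR _ hr₀)) hV
  obtain ⟨r, hr, o, ho, rfl⟩ := Λ.cenR k hk fun r hr => by
    have := hR r hr
    rwa [mul_assoc, ← ru Λ hr, ← mul_assoc, ← mul_assoc, mul_left_inj] at this
  exact ⟨r, hr, a, c, o, ho, by rw [mul_assoc, Λ.comm (Λ.OK ho) (Λ.uL ..), mul_assoc]⟩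

/-- PROOF. `g` normalises `C(R ⊔ V) = R V × O` (`cenRV`), and `O` is its set of elements of odd order. -/
theorem normO {g : G} (hV : ∀ a c, g * Λ.u a 0 c = Λ.u a 0 c * g)
    (hR : ∀ r ∈ Λ.R, ∃ a c, g * r * g⁻¹ = r * Λ.u a 0 c) : g ∈ normalizer (Λ.O : Set G) := by
  refine mem_normalizer_fintype fun o ho => ?_
  obtain ⟨r, hr, a, c, o', ho', e⟩ := Λ.cenRV (g := g * o * g⁻¹) (fun r hr => by
    obtain ⟨a, c, e⟩ := hR r hr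
    have h1 := cm_cj g (Commute.mul_right (Λ.OR o ho r hr) (Λ.comm (Λ.OK ho) (Λ.uL a 0 c)))
    rwa [cj_mul' g r, e, cj_of_comm (hV a c), mul_assoc r, Λ.v_sq, mul_one] at h1) fun a c => by
    have := cm_cj g (Λ.comm (Λ.OK ho) (Λ.uL a 0 c))
    rwa [cj_of_comm (hV a c)] at this
  have h1 : (g * o * g⁻¹) ^ Nat.card Λ.O = 1 := by rw [conj_pow, O_pow Λ ho]; group
  rw [e, Commute.mul_pow (Commute.mul_left (Λ.OR _ ho' r hr).symm (Λ.comm (Λ.OK ho') (Λ.uL ..)).symm),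
    O_pow Λ ho', mul_one] at h1
  obtain ⟨j, hj⟩ := Λ.Oodd
  rw [hj, pow_succ, pow_mul, pow_two, (Λ.sq_iff (Λ.RK.le hr) (Λ.u_mem ..)).2 ⟨Λ.Rsq r hr, Λ.v_sq a c⟩, one_pow,
    one_mul] at h1
  rw [e, h1, one_mul]
  exact ho'

/-- PROOF. `x` normalises `J = R ⊔ U` and `Z(J) = R ⊔ Y`. `R' = x R x⁻¹ ≤ R Y` meets `Y` (`noA`) and `R`
(`tight`, `xN`) trivially: for every `r ∈ R` there is a unique `μ r` with `r z (μ r) ∈ R'`, `μ` is additive and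
injective. For `1 ≠ r ∈ R` and an involution `v ∈ L`, `r v` is `L`-conjugate to `r z (μ r)` (`inv_conj`), so is
`Kp`; as `x` maps the involutions of `V`, `Γ.sw.V` to `Ap` involutions of `J`, `x ∈ N(U)` (`not_Ap`). `exists_ty`
for `x`. `h' = x h x⁻¹` (`σ` false) or `x h² x⁻¹` (`σ` true) acts on `U / Y` and `Y` like `h` and centralises `R'`;
`d = h' h⁻¹` acts trivially on `U / Y`, `Y` and `d r d⁻¹ = r z (v μ r)`. `d u a 0 0 d⁻¹ = u a 0 (φ a)`, `φ`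
additive, `φ a = φ₁ a + φ₂ a²`; `h' ^ 3 = 1` gives `w² φ (v a) + w φ (w a) + φ a = 0`, i.e. `φ₂ = 0`. Same on the
other side, so `m = d (u a₀ b₀ 0)⁻¹` centralises `U`. `m` normalises `O` (`normO`), so `y₁ = m h m⁻¹ h⁻¹`
centralises `U` and `O`, `y₁ r y₁⁻¹ = r z (ν r)`, `ν` additive and injective. A suitable odd power `y₂` of `y₁` is
a 2-element (`CL.Iso.exists_pPart`, or the power `ordCompl`) with the same action on `R`. Put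
`lam r = ν r / ν r₀`; the conjugates of `y₂` by `h ^ i` and `1` give all `η`. -/
theorem exists_Ys : ∃ lam, Ys Λ lam := by
  obtain ⟨m, mu, mr⟩ := exm Λ
  have mO := Λ.normO (fun a c => mu a 0 c) fun r hr => let ⟨c, _, e⟩ := mr r hr; ⟨0, c, e⟩
  have hO : ∀ o ∈ Λ.O, Λ.h * o = o * Λ.h := fun o ho => (Λ.comm (Λ.OK ho) Λ.hL).symm
  obtain ⟨j, k, y2⟩ := odd_pow (m * Λ.h * m⁻¹ * Λ.h⁻¹)
  have u1 : ∀ a b c, Commute (m * Λ.h * m⁻¹ * Λ.h⁻¹) (Λ.u a b c) := fun a b c => by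
    rw [mul_assoc m, mul_assoc m]
    exact Commute.mul_left (mu a b c) (cj_cen (h_U Λ.toLz)
      ((cenU_iff _).2 fun a b c => Commute.inv_left (mu a b c)) _ (Λ.u_mem a b c))
  have o1 : ∀ o ∈ Λ.O, Commute (m * Λ.h * m⁻¹ * Λ.h⁻¹) o := fun o ho =>
    Commute.mul_left (cj_cen mO hO o ho) (Commute.inv_left (hO o ho))
  have r1 : ∀ r, ∃ c, r ∈ Λ.R → (r ≠ 1 → c ≠ 0) ∧
      m * Λ.h * m⁻¹ * Λ.h⁻¹ * r * (m * Λ.h * m⁻¹ * Λ.h⁻¹)⁻¹ = r * Λ.z c := fun r => by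
    by_cases hr : r ∈ Λ.R
    swap
    · exact ⟨0, fun h => absurd h hr⟩
    obtain ⟨c, hc, e⟩ := mr r hr
    refine ⟨c + F4.w * c, fun _ => ⟨fun h => (by decide : ∀ c : F4, c ≠ 0 → c + F4.w * c ≠ 0) c (hc h), ?_⟩⟩
    have e' : m⁻¹ * r * m⁻¹⁻¹ = r * Λ.z c := by
      calc _ = m⁻¹ * (r * Λ.z c * Λ.z c) * m := by rw [mul_assoc r, Λ.z_sq]; group
        _ = m⁻¹ * (m * r * m⁻¹) * (Λ.z c * m) := by rw [e]; group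
        _ = _ := by rw [← mu]; group
    rw [mul_assoc m, mul_assoc m, ← cj_cj, cj_act Λ.toLz Λ.hL (Λ.RK.le hr) e', Λ.hz, cj_mul', e,
      cj_of_comm (mu ..), mul_assoc, Λ.z_mul]
  choose ν hν using r1
  generalize m * Λ.h * m⁻¹ * Λ.h⁻¹ = y at *
  have r2 : ∀ r ∈ Λ.R, y ^ (2 * j + 1) * r * (y ^ (2 * j + 1))⁻¹ = r * Λ.z (ν r) := fun r hr => by
    have : y ^ 2 * r = r * y ^ 2 := comm_of_cj (by
      rw [pow_two, ← cj_cj, (hν r hr).2, cj_mul', (hν r hr).2, cj_of_comm (u1 ..), mul_assoc, Λ.z_sq, mul_one])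
    rw [pow_succ', ← cj_cj, pow_mul, cj_of_comm (Commute.pow_left this j), (hν r hr).2]
  have u2 : ∀ a ∈ Λ.U, y ^ (2 * j + 1) * a = a * y ^ (2 * j + 1) := (cenU_iff _).2 fun a b c => (u1 a b c).pow_left _
  have o2 : ∀ o ∈ Λ.O, y ^ (2 * j + 1) * o = o * y ^ (2 * j + 1) := fun o ho => (o1 o ho).pow_left _
  generalize y ^ (2 * j + 1) = y' at *
  obtain ⟨r₀, hr₀, h0⟩ := exR Λ
  have n0 := (hν r₀ hr₀).1 h0
  have step : ∀ θ, (∃ y : G, (∃ k : ℕ, y ^ 2 ^ k = 1) ∧ (∀ a ∈ Λ.U, y * a = a * y) ∧ (∀ o ∈ Λ.O, y * o = o * y) ∧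
      ∀ r ∈ Λ.R, y * r * y⁻¹ = r * Λ.z (ν r * θ)) → ∃ y : G, (∃ k : ℕ, y ^ 2 ^ k = 1) ∧
      (∀ a ∈ Λ.U, y * a = a * y) ∧ (∀ o ∈ Λ.O, y * o = o * y) ∧
      ∀ r ∈ Λ.R, y * r * y⁻¹ = r * Λ.z (ν r * (F4.w * θ)) := by
    rintro θ ⟨y, ⟨k, h1⟩, h2, h3, h4⟩
    refine ⟨Λ.h * y * Λ.h⁻¹, ⟨k, by rw [conj_pow, h1]; group⟩, cj_cen (h_U Λ.toLz) h2, fun o ho =>
      Commute.mul_left (Commute.mul_left (hO o ho) (h3 o ho)) (Commute.inv_left (hO o ho)), fun r hr => ?_⟩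
    rw [cj_act Λ.toLz Λ.hL (Λ.RK.le hr) (h4 r hr), Λ.hz, mul_left_comm]
  have s1 := step 1 ⟨y', ⟨k, y2⟩, u2, o2, fun r hr => by rw [r2 r hr, mul_one]⟩
  have all : ∀ θ, ∃ y : G, (∃ k : ℕ, y ^ 2 ^ k = 1) ∧ (∀ a ∈ Λ.U, y * a = a * y) ∧ (∀ o ∈ Λ.O, y * o = o * y) ∧
      ∀ r ∈ Λ.R, y * r * y⁻¹ = r * Λ.z (ν r * θ) := fun θ => by
    cases θ
    · exact ⟨1, ⟨0, one_pow _⟩, by simp, by simp, fun r hr => by
        rw [show F4.o = 0 from rfl, mul_zero, Λ.z_eq_one.2 rfl]; group⟩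
    exacts [step _ (step _ s1), s1, step _ s1]
  refine ⟨fun r => ν r / ν r₀, fun r hr r' hr' => ?_, fun r hr e => ?_, ⟨r₀, hr₀, div_self n0⟩, fun η => ?_⟩
  · have := r2 _ (mul_mem hr hr')
    rw [cj_mul', r2 r hr, r2 r' hr', Λ.mul_mul _ _ (Λ.RK.le hr') (Λ.uL ..), Λ.z_mul, mul_right_inj] at this
    rw [← Λ.z_inj this, add_div]
  · by_contra h1
    exact div_ne_zero ((hν r hr).1 h1) n0 e
  · obtain ⟨y, h1, h2, h3, h4⟩ := all (η / ν r₀)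
    exact ⟨y, h1, (cenU_iff _).1 h2, h3, fun r hr => (h4 r hr).trans (congrArg _ (congrArg _ (by ring)))⟩

variable {Λ}

theorem _root_.CL.SZ5.Ys.sw {lam : G → F4} (h : Ys Λ lam) : Ys Λ.sw lam :=
  ⟨h.lam_mul, h.lam_inj, h.lam_one, fun η => let ⟨y, h1, h2, h3, h4⟩ := h.ex η
    ⟨y, h1, fun _ _ _ => h2 _ _ _, h3, fun r hr => (h4 r hr).trans (congrArg _ (Λ.sw_z _).symm)⟩⟩

/-- elements centralising `V` and `R V / V` -/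
def Mg (Λ : El G) : Subgroup G where
  carrier := {g | (∀ a c, g * Λ.u a 0 c = Λ.u a 0 c * g) ∧ ∀ r ∈ Λ.R, ∃ a c, g * r * g⁻¹ = r * Λ.u a 0 c}
  one_mem' := ⟨by simp, fun r _ => ⟨0, 0, by rw [Λ.u_zero]; group⟩⟩
  mul_mem' := by
    rintro g g' ⟨h1, h2⟩ ⟨h3, h4⟩
    refine ⟨fun a c => Commute.mul_left (h1 a c) (h3 a c), fun r hr => ?_⟩
    obtain ⟨a, c, e⟩ := h2 r hr
    obtain ⟨a', c', e'⟩ := h4 r hr
    exact ⟨_, _, by rw [← cj_cj, e', cj_mul', e, cj_of_comm (h1 ..), mul_assoc, Λ.v_mul]⟩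
  inv_mem' := by
    rintro g ⟨h1, h2⟩
    refine ⟨fun a c => Commute.inv_left (h1 a c), fun r hr => ?_⟩
    obtain ⟨a, c, e⟩ := h2 r hr
    refine ⟨a, c, ?_⟩
    calc _ = g⁻¹ * (r * Λ.u a 0 c * Λ.u a 0 c) * g := by rw [mul_assoc r, Λ.v_sq]; group
      _ = g⁻¹ * (g * r * g⁻¹) * (Λ.u a 0 c * g) := by rw [e]; group
      _ = _ := by rw [← h1]; group

theorem exists_P (Λ : El G) : ∃ P : Subgroup G, IsPGroup 2 P ∧ P ≤ Λ.Mg ⊓ centralizer (Λ.O : Set G) ∧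
    ∀ g ∈ Λ.Mg ⊓ centralizer (Λ.O : Set G), ∀ k : ℕ, g ^ 2 ^ k = 1 → g ∈ P := by
  have nil : Group.IsNilpotent ↥(Λ.Mg ⊓ centralizer (Λ.O : Set G)) := by
    refine Group.of_quotient_center_nilpotent (IsPGroup.isNilpotent (p := 2) fun q => ⟨2, ?_⟩)
    obtain ⟨⟨g, ⟨h1, h2⟩, h3⟩, rfl⟩ := QuotientGroup.mk_surjective q
    rw [← QuotientGroup.mk_pow, QuotientGroup.eq_one_iff, mem_center_iff]
    obtain ⟨r, hr, a, c, o, ho, e⟩ := Λ.cenRV (g := g * g) (fun r hr => by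
      obtain ⟨a, c, e⟩ := h2 r hr
      exact comm_of_cj (by rw [← cj_cj, e, cj_mul', e, cj_of_comm (h1 ..), mul_assoc, Λ.v_sq, mul_one]))
      fun a c => Commute.mul_left (h1 a c) (h1 a c)
    have e2 : g ^ 2 ^ 2 = o * o := by
      rw [show 2 ^ 2 = 2 * 2 from rfl, pow_mul, pow_two g, e,
        Commute.mul_pow (Commute.mul_left (Λ.OR _ ho r hr).symm (Λ.comm (Λ.OK ho) (Λ.uL ..)).symm), pow_two,
        (Λ.sq_iff (Λ.RK.le hr) (Λ.u_mem ..)).2 ⟨Λ.Rsq r hr, Λ.v_sq a c⟩, one_mul, pow_two]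
    intro x
    refine Subtype.ext ?_
    change x.1 * g ^ 2 ^ 2 = g ^ 2 ^ 2 * x.1
    rw [e2]
    exact (x.2.2 _ (mul_mem ho ho)).symm
  obtain ⟨Q⟩ : Nonempty (Sylow 2 ↥(Λ.Mg ⊓ centralizer (Λ.O : Set G))) := inferInstance
  have hQ : (Q : Subgroup ↥(Λ.Mg ⊓ centralizer (Λ.O : Set G))).Normal := inferInstance
  have hP := sylIn_map_subtype Q
  refine ⟨_, hP.pgroup, hP.le, fun g hg k e => hP.le_of_normalizes (pg_zpowers e) (zpowers_le.2 hg)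
    (zpowers_le.2 (mem_normalizer_fintype ?_)) (mem_zpowers g)⟩
  rintro _ ⟨q, hq, rfl⟩
  exact ⟨_, hQ.conj_mem q hq ⟨g, hg⟩, rfl⟩

/-- PROOF. `M = {g ∈ C(V) | ∀ r ∈ R, g r g⁻¹ ∈ r V}` is a subgroup normalising `O` (`normO`). For `p = (a, c)` the
product `m p` of `n (y a) n⁻¹` and `y c` (`n = n false`) lies in `M ⊓ C(O)` and acts by `r ↦ r u (lam r a) 0
(lam r c)`. Every `g ∈ M` acts like some `m p`: with `lam r₀ = 1`, `g r₀ g⁻¹ = r₀ u a 0 c`, the element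
`(m p)⁻¹ g` centralises `r₀`, lies in `N`, in `K V` (`cenV`), so fixes every `r` (`ext`) and lies in `R V O`
(`cenRV`). This defines `τ : M → F4 × F4` (additive). `M₀ = M ⊓ C(O)`, `P` Sylow in `M₀`; `P ≥ R V`;
`Z = O ⊓ C(O)` is central in `M₀`, the kernel of `τ` on `M₀` is `R V Z`, so `g ^ 4 ∈ Z` for `g ∈ M₀`; hence
`M₀ = P Z`, `P` is normal in `M₀`, contains `R`, `V`, and `τ` is onto on `P`. `ker`, `max`: `m = p o` with `p ∈ P`,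
`o ∈ O` commuting, so `o = 1`. -/
theorem _root_.CL.SZ5.Ys.exists_Ps {lam : G → F4} (h : Ys Λ lam) : ∃ P τ, Ps Λ lam P τ := by
  obtain ⟨P, pg, hP, hmax⟩ := Λ.exists_P
  obtain ⟨r₀, hr₀, l1⟩ := h.lam_one
  have r1 : r₀ ≠ 1 := fun e => by
    have := h.lam_mul _ hr₀ _ hr₀
    rw [e, mul_one, add_self, ← e, l1] at this
    exact one_ne_zero this
  have RP : Λ.R ≤ P := fun r hr => hmax r ⟨⟨fun a c => ru Λ hr .., fun r' hr' => ⟨0, 0, by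
    rw [cj_of_comm (comm_of_sq Λ.Rsq hr hr'), Λ.u_zero, mul_one]⟩⟩, fun o ho => Λ.OR o ho r hr⟩ 1
    (by simpa [pow_two] using Λ.Rsq r hr)
  have uP : ∀ a c, Λ.u a 0 c ∈ P := fun a c => hmax _ ⟨⟨fun _ _ => Λ.v_comm .., fun r' hr' => ⟨0, 0, by
    rw [cj_of_comm (ru Λ hr' ..).symm, Λ.u_zero, mul_one]⟩⟩, fun o ho => Λ.comm (Λ.OK ho) (Λ.uL ..)⟩ 1
    (by simpa [pow_two] using Λ.v_sq a c)
  have hm : ∀ a c, ∃ m ∈ P, ∀ r ∈ Λ.R, m * r * m⁻¹ = r * Λ.u (lam r * a) 0 (lam r * c) := fun a c => by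
    obtain ⟨y, ⟨k, y1⟩, y2, y3, y4⟩ := h.ex a
    obtain ⟨y', ⟨k', y1'⟩, y2', y3', y4'⟩ := h.ex c
    have hn : ∀ o ∈ Λ.O, Commute (Λ.n false) o := fun o ho => (Λ.comm (Λ.OK ho) (Λ.nL _)).symm
    have a1 : ∀ r ∈ Λ.R, Λ.n false * y * (Λ.n false)⁻¹ * r * (Λ.n false * y * (Λ.n false)⁻¹)⁻¹ =
        r * Λ.u (lam r * a) 0 0 := fun r hr => by rw [cj_act Λ.toLz (Λ.nL _) (Λ.RK.le hr) (y4 r hr), Λ.n0]
    have a2 := (cenV_iff _).1 (cj_cen (n_V Λ.toLz) ((cenV_iff _).2 fun a c => y2 a 0 c))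
    refine ⟨_, mul_mem (hmax _ ⟨⟨a2, fun r hr => ⟨_, _, a1 r hr⟩⟩, fun o ho => (Commute.mul_left
      (Commute.mul_left (hn o ho) (y3 o ho)) (hn o ho).inv_left).symm⟩ k (by rw [conj_pow, y1]; group))
      (hmax y' ⟨⟨fun a c => y2' a 0 c, fun r hr => ⟨_, _, y4' r hr⟩⟩, fun o ho => (y3' o ho).symm⟩ k' y1'),
      fun r hr => ?_⟩
    rw [← cj_cj, y4' r hr, cj_mul', a1 r hr, cj_of_comm (a2 ..), mul_assoc, Λ.v_mul, add_zero, zero_add]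
  have dec : ∀ g ∈ Λ.Mg, ∃ a c, ∃ m ∈ P, (∀ r ∈ Λ.R, m * r * m⁻¹ = r * Λ.u (lam r * a) 0 (lam r * c)) ∧
      ∀ r ∈ Λ.R, m⁻¹ * g * r = r * (m⁻¹ * g) := fun g hg => by
    obtain ⟨a, c, e⟩ := hg.2 r₀ hr₀
    obtain ⟨m, hm1, hm2⟩ := hm a c
    refine ⟨a, c, m, hm1, hm2, fun r hr => ?_⟩
    have g1 := Λ.Mg.mul_mem (Λ.Mg.inv_mem (hP hm1).1) hg
    obtain ⟨k, hk, a', c', e1⟩ := Λ.cenV (Λ.cen_le_N (Λ.RK.le hr₀) (Λ.Rsq _ hr₀) r1 (comm_of_cj (by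
      have := hm2 r₀ hr₀
      rw [l1, one_mul, one_mul] at this
      rw [← cj_cj, e, ← this]; group))) g1.1
    obtain ⟨a'', c'', e2⟩ := g1.2 r hr
    have e3 := e2
    rw [e1, ← cj_cj, cj_of_comm (ru Λ hr ..).symm, ← mul_one (k * r * k⁻¹)] at e3
    rw [← (Λ.ext (mul_mem (mul_mem hk (Λ.RK.le hr)) (inv_mem hk)) (Λ.RK.le hr) (one_mem _) (Λ.u_mem ..) e3).2,
      mul_one] at e2
    exact comm_of_cj e2
  have ex : ∀ g, ∃ p : F4 × F4, g ∈ Λ.Mg → ∀ r ∈ Λ.R, g * r * g⁻¹ = r * Λ.u (lam r * p.1) 0 (lam r * p.2) := by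
    intro g
    by_cases hg : g ∈ Λ.Mg
    · obtain ⟨a, c, m, -, h1, h2⟩ := dec g hg
      refine ⟨(a, c), fun _ r hr => ?_⟩
      rw [← h1 r hr]
      conv_rhs => rw [← cj_of_comm (h2 r hr)]
      group
    · exact ⟨0, fun h => absurd h hg⟩
  choose τ hτ using ex
  refine ⟨P, τ, h.lam_mul, h.lam_inj, pg, RP, uP, fun x hx => (hP hx).1.1, fun x hx o ho => ((hP hx).2 o ho).symm,
    fun x hx => hτ x (hP hx).1, fun p => ?_, fun x hx e => ?_, fun g ⟨k, e⟩ h1 h2 => ?_⟩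
  · obtain ⟨m, h1, h2⟩ := hm p.1 p.2
    have := (hτ m (hP h1).1 r₀ hr₀).symm.trans (h2 r₀ hr₀)
    rw [mul_right_inj, l1, one_mul, one_mul, one_mul, one_mul] at this
    exact ⟨m, h1, Prod.ext (Λ.u_inj this).1 (Λ.u_inj this).2.2⟩
  · obtain ⟨r, hr, a, c, o, ho, e1⟩ := Λ.cenRV (g := x) (fun r hr => comm_of_cj (by
      rw [hτ x (hP hx).1 r hr, e]; simp [Λ.u_zero])) (hP hx).1.1
    obtain ⟨k, hk⟩ := pow_two_of_mem pg ((mul_mem_cancel_left (mul_mem (RP hr) (uP a c))).1 (e1 ▸ hx))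
    exact ⟨r, hr, a, c, by rw [e1, O_two Λ ho hk, mul_one]⟩
  · obtain ⟨a, c, m, hm1, -, h3⟩ := dec g ⟨h1, h2⟩
    obtain ⟨r, hr, a', c', o, ho, e1⟩ := Λ.cenRV h3 (Λ.Mg.mul_mem (Λ.Mg.inv_mem (hP hm1).1) ⟨h1, h2⟩).1
    have p1 := mul_mem hm1 (mul_mem (RP hr) (uP a' c'))
    rw [inv_mul_eq_iff_eq_mul, ← mul_assoc] at e1
    obtain ⟨k', hk'⟩ := pow_two_of_mem pg p1
    have e2 : g ^ 2 ^ (k + k') = 1 := by rw [pow_add, pow_mul, e, one_pow]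
    rw [e1, Commute.mul_pow ((hP p1).2 o ho).symm, pow_add, mul_comm (2 ^ k), pow_mul, hk', one_pow, one_mul,
      ← pow_add] at e2
    rw [e1, O_two Λ ho e2, mul_one]
    exact p1

end El

end CL.SZ5
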