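import Cfsg.Agent.INV.SZ5.Tc

/-! The split case: construction of `UT₃(A)`. -/

set_option autoImplicit false
set_option linter.unusedVariables false
set_option linter.unusedSectionVars false

namespace CL.SZ5

open Subgroup CL.MSS

universe u
variable {G : Type u} [Group G] [Finite G]

namespace Z0

theorem bil {f : F4 → F4 → F4} (h1 : ∀ a a' b, f (a + a') b = f a b + f a' b)
    (h2 : ∀ a b b', f a (b + b') = f a b + f a b') (h3 : ∀ a b, f (F4.v * a) (F4.v * b) = F4.w * f a b) (a b : F4) :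
    f a b = a * b * f 1 1 := by
  have z1 : ∀ b, f 0 b = 0 := fun b => by simpa using h1 0 0 b
  have z2 : ∀ b, f b 0 = 0 := fun b => by simpa using h2 b 0 0
  have v1 : ∀ b, f F4.v b = f 1 b + f F4.w b := h1 1 F4.w
  have v2 : ∀ b, f b F4.v = f b 1 + f b F4.w := fun b => h2 b 1 F4.w
  have t : ∀ A B C D : F4, A = F4.w * D → A + C = F4.w * B → A + B = F4.w * C →
    B = F4.w * A ∧ C = F4.w * A ∧ D = F4.v * A := by decide
  obtain ⟨e1, e2, e3⟩ := t (f 1 1) _ _ _ (h3 F4.w F4.w) ((v1 1).symm.trans (h3 1 F4.w)) ((v2 1).symm.trans (h3 F4.w 1))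
  have c : ∀ a : F4, a = 0 ∨ a = 1 ∨ a = F4.w ∨ a = F4.v := by decide
  rcases c a with rfl | rfl | rfl | rfl <;> rcases c b with rfl | rfl | rfl | rfl <;>
    (try simp only [z1, z2, v1, v2, e1, e2, e3]) <;> generalize f 1 1 = x <;> (clear * -; decide +revert)

variable (Λ : Co G)

/-- the elements of `Y*` -/
def zz (x : F4 × F4) : G := Λ.z x.1 * Λ.y x.2
/-- a complement to `Y*` -/
def pp (x : F4 × F4) : G := Λ.u x.1 0 0 * Λ.w1 x.2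

theorem zz_el (x : F4 × F4) : zz Λ x = Λ.el 1 0 0 x.1 x.2 := by rw [Co.el, one_mul, zz]
theorem zz_add (x x' : F4 × F4) : zz Λ x * zz Λ x' = zz Λ (x + x') := by
  simp [zz_el, Λ.el_mul 1 (one_mem _), Λ.lam_1]
theorem zz_zero : zz Λ 0 = 1 := by rw [zz_el]; exact Λ.el_one
theorem two (x : F4 × F4) : x + x = 0 := Prod.ext (add_self _) (add_self _)
theorem zz_inj {x x' : F4 × F4} (e : zz Λ x = zz Λ x') : x = x' := by
  rw [zz_el, zz_el] at e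
  obtain ⟨-, -, -, h1, h2⟩ := Λ.el_inj (one_mem _) (one_mem _) e
  exact Prod.ext h1 h2
theorem sw_zz (x : F4 × F4) : zz Λ.sw x = zz Λ x := congrArg (· * Λ.y x.2) (Λ.toLz.sw_z _)
theorem h_zz (x : F4 × F4) : Λ.h * zz Λ x * Λ.h⁻¹ = zz Λ (F4.w • x) := by rw [zz, cj_mul', Λ.hz, Λ.hy]; rfl
theorem r_zz {r : G} (hr : r ∈ Λ.R) (x : F4 × F4) : r * zz Λ x * r⁻¹ = zz Λ (x.1 + Λ.lam r * x.2, x.2) := by
  rw [mul_inv_eq_iff_eq_mul, zz_el, zz_el, ← Λ.el_r r, Λ.el_mul _ (one_mem _), Λ.el_mul _ hr, Λ.el_r, Λ.lam_1]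
  simp [add_assoc, add_self]
theorem w0 : Λ.w1 0 = 1 := by simpa using Λ.w1_mul 0 0
theorem w2 (a : F4) : Λ.w1 a * Λ.w1 a = 1 := by rw [Λ.w1_mul, add_self, w0]
theorem pp_add (x x' : F4 × F4) : pp Λ x * pp Λ x' = pp Λ (x + x') := by
  rw [pp, pp, mul_assoc, ← mul_assoc (Λ.w1 _), Λ.w1_v, mul_assoc, Λ.w1_mul, ← mul_assoc, Λ.v_mul, add_zero]; rfl
theorem h_pp (x : F4 × F4) : Λ.h * pp Λ x * Λ.h⁻¹ = pp Λ (F4.v • x) := by
  rw [pp, cj_mul', Λ.hu, Λ.h_w1, mul_zero, mul_zero]; rfl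
theorem r_pp {r : G} (hr : r ∈ Λ.R) (x : F4 × F4) : r * pp Λ x * r⁻¹ = pp Λ (x.1 + Λ.lam r * x.2, x.2) := by
  have := mul_inv_eq_iff_eq_mul.1 (Λ.w1_r x.2 hr)
  rw [pp, cj_mul', cj_of_comm (Λ.ru hr ..), mul_assoc r, inv_of_sq (Λ.Rsq r hr), this, ← mul_assoc r, ← mul_assoc r,
    Λ.Rsq r hr, one_mul, ← mul_assoc, Λ.v_mul, add_zero]; rfl
theorem u_zz (a b c : F4) (x : F4 × F4) : Commute (Λ.u a b c) (zz Λ x) :=
  .mul_right (Λ.z_comm ..).symm (Λ.yu ..).symm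
theorem w_zz (h : Λ.k1 = 0) (a : F4) (x : F4 × F4) : Commute (Λ.w1 a) (zz Λ x) :=
  .mul_right (Λ.w1_v ..) (comm_of_cj (by simpa [h, Λ.u_zero] using Λ.s1.wy a x.2))
theorem pp_zz (h : Λ.k1 = 0) (y x : F4 × F4) : Commute (pp Λ y) (zz Λ x) := .mul_left (u_zz ..) (w_zz Λ h ..)

variable {Λ}

theorem cml {g g' k : G} {x x' : F4 × F4} (h : g * k = k * g * zz Λ x) (h' : g' * k = k * g' * zz Λ x')
    (c : Commute g' (zz Λ x)) : g * g' * k = k * (g * g') * zz Λ (x + x') := by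
  rw [mul_assoc, h', ← mul_assoc, ← mul_assoc, h, mul_assoc _ _ g', ← c.eq, ← zz_add]; simp only [mul_assoc]
theorem cmr {g k k' : G} {x x' : F4 × F4} (h : g * k = k * g * zz Λ x) (h' : g * k' = k' * g * zz Λ x')
    (c : Commute k' (zz Λ x)) : g * (k * k') = k * k' * g * zz Λ (x + x') := by
  rw [← mul_assoc, h, mul_assoc _ _ k', ← c.eq, ← mul_assoc, mul_assoc k, h', add_comm, ← zz_add]
  simp only [mul_assoc]
theorem flip {g k : G} {x : F4 × F4} (h : g * k = k * g * zz Λ x) : k * g = g * k * zz Λ x := by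
  rw [h, mul_assoc, zz_add, two, zz_zero, mul_one]

theorem wu (h : Λ.k1 = 0) (a b : F4) : ∃ c, Λ.w1 a * Λ.u 0 b 0 = Λ.u 0 b 0 * Λ.w1 a * zz Λ (c, a * b) := by
  obtain ⟨r, hr, e, c, e'⟩ := Λ.s1.wu a b
  obtain rfl := Λ.lam_inj r hr (by simp [e, h])
  refine ⟨c, ?_⟩
  rw [mul_assoc, (w_zz Λ h ..).eq, ← mul_assoc, ← mul_inv_eq_iff_eq_mul, zz, ← mul_assoc, Λ.u_mul_z]
  simpa [h] using e'

theorem ww (h1 : Λ.k1 = 0) (h2 : Λ.k2 = 0) (a b : F4) : ∃ x, Λ.w1 a * Λ.w2 b = Λ.w2 b * Λ.w1 a * zz Λ x := by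
  by_cases a0 : a = 0
  · exact ⟨0, by simp [a0, w0, zz_zero]⟩
  by_cases b0 : b = 0
  · exact ⟨0, by simp [b0, Co.w2, w0, zz_zero]⟩
  have i1 := inv_of_sq (w2 Λ a)
  have i2 : (Λ.w2 b)⁻¹ = Λ.w2 b := inv_of_sq (w2 Λ.sw b)
  obtain ⟨x, hx, o, ho, e⟩ := Λ.ker (g := Λ.w1 a * Λ.w2 b * (Λ.w1 a * Λ.w2 b)) fun x hx => by
    obtain ⟨m1, e1⟩ := Λ.w2_cl b hx
    obtain ⟨m2, e2⟩ := Λ.w1_cl a m1
    obtain ⟨m3, e3⟩ := Λ.w2_cl b m2
    obtain ⟨m4, e4⟩ := Λ.w1_cl a m3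
    rw [← cj_cj, ← cj_cj, ← cj_cj, e4, e3, e2, e1, h1, h2]
    refine ⟨m4, ?_⟩
    generalize Λ.cl x = p
    obtain ⟨p1, p2, p3, p4⟩ := p
    simp only [zero_mul, add_zero, Prod.mk.injEq, true_and]
    exact ⟨by linear_combination add_self (a * p1), by linear_combination add_self (b * p1), by
      linear_combination add_self (a * p3) + add_self (b * p2) + add_self (a * b * p1) + add_self (a * b * p1)⟩
  have c1 : Λ.w1 a * (x * o) * (Λ.w1 a)⁻¹ = (x * o)⁻¹ := by rw [← e]; simp only [mul_inv_rev, i1, i2, ← mul_assoc, w2, one_mul]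
  have c2 : Λ.w2 b * (x * o) * (Λ.w2 b)⁻¹ = (x * o)⁻¹ := by
    rw [← e]; simp only [mul_inv_rev, i1, i2, mul_assoc, show Λ.w2 b * Λ.w2 b = 1 from w2 Λ.sw b, mul_one]
  obtain rfl : o = 1 := by
    have m : o * o ∈ Λ.T := by
      rw [cj_mul', cj_of_comm (Λ.w1_O a ho), Co.T_O hx ho, mul_inv_rev, eq_mul_inv_iff_mul_eq, mul_assoc,
        ← eq_inv_mul_iff_mul_eq] at c1
      exact c1 ▸ mul_mem (inv_mem (Λ.w1_cl a hx).1) (inv_mem hx)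
    obtain ⟨n, k⟩ := pow_two_of_mem Co.pT m
    exact orderOf_eq_one_iff.1 (Nat.eq_one_of_dvd_coprimes ((Nat.coprime_two_left.2 Λ.Oodd).pow_left (n + 1))
      (orderOf_dvd_of_pow_eq_one (by rw [pow_succ', pow_mul, pow_two, k])) (orderOf_dvd_natCard _ ho))
  rw [mul_one] at c1 c2 e
  have e1 := (Λ.w1_cl a hx).2
  have e2 := (Λ.w2_cl b hx).2
  rw [c1, Co.cl_inv hx, h1] at e1
  rw [c2, Co.cl_inv hx, h2] at e2
  obtain ⟨r, hr, p, q, c, η, rfl⟩ := hx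
  simp [Λ.cl_el hr, a0, b0] at e1 e2
  obtain rfl := Λ.lam_inj r hr e1.1
  obtain rfl := e1.2
  obtain rfl := e2.2
  refine ⟨(c, η), ?_⟩
  rw [zz_el, ← e, ← mul_assoc, ← mul_assoc, ← mul_assoc, mul_assoc (Λ.w2 b), w2, mul_one,
    show Λ.w2 b * Λ.w2 b = 1 from w2 Λ.sw b, one_mul]

theorem uu (a b : F4) : Λ.u a 0 0 * Λ.sw.u b 0 0 = Λ.sw.u b 0 0 * Λ.u a 0 0 * zz Λ (a * b, 0) := by
  simp [show ∀ b, Λ.sw.u b 0 0 = Λ.u 0 b 0 from fun b => Λ.toLz.sw_v b 0, zz, Λ.y_zero, Λ.u_mul]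

theorem exists_β (h1 : Λ.k1 = 0) (h2 : Λ.k2 = 0) : ∃ s s' b, (∀ r ∈ Λ.R, Λ.lam r = 0 ∨ Λ.lam r = 1) ∧
    ∀ x y : F4 × F4, pp Λ (x.1 + s * x.2, x.2) * pp Λ.sw (y.1 + s' * y.2, y.2) = pp Λ.sw (y.1 + s' * y.2, y.2) *
      pp Λ (x.1 + s * x.2, x.2) * zz Λ (x.1 * y.1 + b * x.2 * y.2, x.1 * y.2 + x.2 * y.1 + 1 * x.2 * y.2) := by
  have sv : ∀ b, Λ.sw.u b 0 0 = Λ.u 0 b 0 := fun b => Λ.toLz.sw_v b 0
  have wz : ∀ b x, Commute (Λ.w2 b) (zz Λ x) := fun b x => sw_zz Λ x ▸ w_zz Λ.sw h2 b x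
  have qz : ∀ y x, Commute (pp Λ.sw y) (zz Λ x) := fun b x => sw_zz Λ x ▸ pp_zz Λ.sw h2 b x
  have uw : ∀ a b, ∃ c, Λ.u a 0 0 * Λ.w2 b = Λ.w2 b * Λ.u a 0 0 * zz Λ (c, b * a) := fun a b => by
    obtain ⟨c, e⟩ := wu (Λ := Λ.sw) h2 b a
    rw [sw_zz, show Λ.sw.u 0 a 0 = Λ.u a 0 0 from Λ.toLz.sw_v' a 0] at e
    exact ⟨c, flip e⟩
  choose β hβ using fun x y : F4 × F4 => show ∃ c, pp Λ x * pp Λ.sw y = pp Λ.sw y * pp Λ x * zz Λ c by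
    obtain ⟨_, e1⟩ := uw x.1 y.2
    obtain ⟨_, e2⟩ := wu h1 x.2 y.1
    obtain ⟨_, e3⟩ := ww h1 h2 x.2 y.2
    exact ⟨_, cml (cmr (uu ..) e1 (wz ..)) (cmr (sv _ ▸ e2) e3 (wz ..)) (w_zz Λ h1 ..)⟩
  have un : ∀ {x y c}, pp Λ x * pp Λ.sw y = pp Λ.sw y * pp Λ x * zz Λ c → β x y = c := fun e =>
    zz_inj Λ (mul_left_cancel ((hβ _ _).symm.trans e))
  have a1 : ∀ x x' y, β (x + x') y = β x y + β x' y := fun x x' y =>
    un (pp_add Λ x x' ▸ cml (hβ x y) (hβ x' y) (pp_zz Λ h1 ..))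
  have a2 : ∀ x y y', β x (y + y') = β x y + β x y' := fun x y y' =>
    un (pp_add Λ.sw y y' ▸ cmr (hβ x y) (hβ x y') (qz ..))
  have a3 : ∀ x y, β (F4.v • x) (F4.v • y) = F4.w • β x y := fun x y => un (by
    rw [← h_pp, ← h_pp, ← h_zz, show Λ.sw.h = Λ.h from rfl, ← cj_mul', ← cj_mul', ← cj_mul', hβ])
  have a4 : ∀ (a b : F4) x y, β (a • x) (b • y) = (a * b) • β x y := fun a b x y => Prod.ext
    (by simpa using (bil (f := fun a b => (β (a • x) (b • y)).1) (by simp [add_smul, a1]) (by simp [add_smul, a2])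
      (by simp [mul_smul, a3]) a b))
    (by simpa using (bil (f := fun a b => (β (a • x) (b • y)).2) (by simp [add_smul, a1]) (by simp [add_smul, a2])
      (by simp [mul_smul, a3]) a b))
  obtain ⟨s', e1⟩ := uw 1 1
  obtain ⟨s, e2⟩ := wu h1 1 1
  have b1 : β (1, 0) (1, 0) = (1, 0) := un (by simpa [pp, w0] using uu (Λ := Λ) 1 1)
  have b2 : β (1, 0) (0, 1) = (s', 1) := un (by simpa [pp, w0, Lz.u_zero] using e1)
  have b3 : β (0, 1) (1, 0) = (s, 1) := un (by simpa [pp, w0, Lz.u_zero, sv] using e2)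
  have ex : ∀ x y : F4 × F4, β x y = (x.1 * y.1) • (1, 0) + (x.1 * y.2) • (s', 1) + ((x.2 * y.1) • (s, 1) +
      (x.2 * y.2) • β (0, 1) (0, 1)) := fun x y => by
    have e : ∀ x : F4 × F4, x = x.1 • (1, 0) + x.2 • (0, 1) := fun x => by simp
    conv_lhs => rw [e x, e y]
    rw [a1, a2, a2, a4, a4, a4, a4, b1, b2, b3]
  have k : ∀ r ∈ Λ.R, Λ.lam r = 0 ∨ Λ.lam r = (β (0, 1) (0, 1)).2 + s + s' := fun r hr => by
    have := un (x := (0 + Λ.lam r * 1, 1)) (y := (0 + Λ.sw.lam r * 1, 1)) (by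
      rw [← r_pp Λ hr (0, 1), ← r_pp Λ.sw hr (0, 1), ← cj_mul', hβ, cj_mul', cj_mul', r_zz Λ hr])
    have := congrArg Prod.fst ((ex _ _).symm.trans this)
    simp only [show Λ.sw.lam r = Λ.lam r from rfl, Prod.fst_add, Prod.smul_fst, smul_eq_mul] at this
    generalize (β (0, 1) (0, 1)).1 = p, (β (0, 1) (0, 1)).2 = q, Λ.lam r = m at this ⊢
    clear * - this
    decide +revert
  obtain ⟨r0, h0, l0⟩ := Λ.lam_one
  have q1 := (k r0 h0).resolve_left (l0 ▸ one_ne_zero)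
  refine ⟨s, s', (β (0, 1) (0, 1)).1 + s * s', fun r hr => (k r hr).imp_right (·.trans (q1.symm.trans l0)),
    fun x y => ?_⟩
  rw [hβ, ex]
  congr 2
  rw [l0] at q1
  refine Prod.ext ?_ ?_ <;> simp only [Prod.fst_add, Prod.smul_fst, Prod.snd_add, Prod.smul_snd, smul_eq_mul]
  · linear_combination add_self (x.1 * s' * y.2) + add_self (s * x.2 * y.1) + add_self (s * x.2 * s' * y.2)
  · linear_combination -x.2 * y.2 * q1

end Z0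

end CL.SZ5
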