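import Cfsg.Agent.INV.SZ5.Defs

/-! Automorphisms of `L₃(4)` normalising `U`. -/

set_option autoImplicit false

namespace CL.SZ5

open Subgroup CL.MSS

universe u
variable {G : Type u} [Group G]

namespace Bas

theorem fr_mul (σ : Bool) (a b : F4) : fr σ (a * b) = fr σ a * fr σ b := by revert σ a b; decide
theorem fr_add (σ : Bool) (a b : F4) : fr σ (a + b) = fr σ a + fr σ b := by revert σ a b; decide
theorem fr_fr (σ σ' : Bool) (a : F4) : fr σ (fr σ' a) = fr (xor σ σ') a := by revert σ σ' a; decide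
theorem fr_one (σ : Bool) : fr σ 1 = 1 := by revert σ; decide
theorem fr_zero (σ : Bool) : fr σ 0 = 0 := by revert σ; decide
theorem fr_ne (σ : Bool) {a : F4} (h : a ≠ 0) : fr σ a ≠ 0 := by revert σ a; decide
theorem fr_false (a : F4) : fr false a = a := rfl
theorem fr_true (a : F4) : fr true a = a * a := rfl

theorem add_inj (e : F4 →+ F4) (he : Function.Injective e) : ∃ σ, ∀ c, e c = e 1 * fr σ c := by
  have h1 : e 1 ≠ 0 := fun h => absurd (he (h.trans e.map_zero.symm)) (by decide)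
  have h2 : e F4.w ≠ 0 := fun h => absurd (he (h.trans e.map_zero.symm)) (by decide)
  have h3 : e F4.w ≠ e 1 := fun h => absurd (he h) (by decide)
  have h4 : e F4.v = e F4.w + e 1 := by rw [← map_add]; rfl
  have key : ∀ a x : F4, a ≠ 0 → x ≠ 0 → x ≠ a → ∃ σ, x = a * fr σ F4.w ∧ x + a = a * fr σ F4.v := by decide
  obtain ⟨σ, k1, k2⟩ := key _ _ h1 h2 h3
  refine ⟨σ, fun c => ?_⟩
  cases c
  · exact e.map_zero.trans (by rw [show F4.o = 0 from rfl, fr_zero, mul_zero])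
  · rw [show F4.l = 1 from rfl, fr_one, mul_one]
  · exact k1
  · exact h4.trans k2

theorem axis {p q : F4 → F4} (hp : ∀ a b, p (a + b) = p a + p b) (hq : ∀ a b, q (a + b) = q a + q b)
    (h : ∀ a, p a * q a = 0) : (∀ a, p a = 0) ∨ ∀ a, q a = 0 := by
  by_contra hc
  push Not at hc
  obtain ⟨⟨a, ha⟩, b, hb⟩ := hc
  have h1 := (mul_eq_zero.1 (h a)).resolve_left ha
  have h2 := (mul_eq_zero.1 (h b)).resolve_right hb
  have h3 := h (a + b)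
  rw [hp, hq, h1, h2, add_zero, zero_add] at h3
  exact mul_ne_zero ha hb h3

theorem split {φ ψ : F4 → F4} (e : F4 →+ F4) (he : Function.Injective e) (h : ∀ a b, e (a * b) = φ a * ψ b) :
    ∃ (σ : Bool) (α β : F4), α ≠ 0 ∧ β ≠ 0 ∧ (∀ a, φ a = α * fr σ a) ∧ (∀ b, ψ b = β * fr σ b) ∧
      ∀ c, e c = α * β * fr σ c := by
  obtain ⟨σ, hσ⟩ := add_inj e he
  have h1 : e 1 ≠ 0 := fun h => absurd (he (h.trans e.map_zero.symm)) (by decide)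
  have h2 : e 1 = φ 1 * ψ 1 := by simpa using h 1 1
  rw [h2] at h1 hσ
  have ha := left_ne_zero_of_mul h1
  have hb := right_ne_zero_of_mul h1
  refine ⟨σ, φ 1, ψ 1, ha, hb, fun a => mul_right_cancel₀ hb ?_, fun b => mul_left_cancel₀ ha ?_, hσ⟩
  · rw [← h, mul_one, hσ]; ring
  · rw [← h, one_mul, hσ]; ring

theorem ty_abs' (f : F4 × F4 →+ F4 × F4) (e : F4 →+ F4) (he : Function.Injective e)
    (h : ∀ p, e (p.1 * p.2) = (f p).1 * (f p).2) :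
    ∃ (s σ : Bool) (α β : F4), α ≠ 0 ∧ β ≠ 0 ∧ (∀ a b, f (a, b) =
      cond s (β * fr σ b, α * fr σ a) (α * fr σ a, β * fr σ b)) ∧ ∀ c, e c = α * β * fr σ c := by
  have hf : ∀ a b, f (a, b) = f (a, 0) + f (0, b) := fun a b => by rw [← map_add]; simp
  have a1 : ∀ a b, f (a + b, 0) = f (a, 0) + f (b, 0) := fun a b => by rw [← map_add]; simp
  have a2 : ∀ a b, f (0, a + b) = f (0, a) + f (0, b) := fun a b => by rw [← map_add]; simp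
  have h1 : e 1 ≠ 0 := fun h => absurd (he (h.trans e.map_zero.symm)) (by decide)
  have hh : ∀ a b, e (a * b) = ((f (a, 0)).1 + (f (0, b)).1) * ((f (a, 0)).2 + (f (0, b)).2) := fun a b => by
    have := h (a, b)
    rw [hf] at this
    exact this
  rcases axis (p := fun a => (f (a, 0)).1) (q := fun a => (f (a, 0)).2) (fun a b => by rw [a1]; rfl)
    (fun a b => by rw [a1]; rfl) (fun a => by simpa using (h (a, 0)).symm) with hp | hp <;>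
  rcases axis (p := fun a => (f (0, a)).1) (q := fun a => (f (0, a)).2) (fun a b => by rw [a2]; rfl)
    (fun a b => by rw [a2]; rfl) (fun a => by simpa using (h (0, a)).symm) with hq | hq
  · exact absurd (by simpa [hp, hq] using hh 1 1) h1
  · obtain ⟨σ, α, β, ha, hb, k1, k2, k3⟩ := split (φ := fun a => (f (a, 0)).2) (ψ := fun a => (f (0, a)).1) e he
      (fun a b => by rw [hh, hp, hq, zero_add, add_zero, mul_comm])
    refine ⟨true, σ, α, β, ha, hb, fun a b => ?_, k3⟩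
    rw [hf]
    exact Prod.ext (by simp [hp, k2]) (by simp [hq, k1])
  · obtain ⟨σ, α, β, ha, hb, k1, k2, k3⟩ := split (φ := fun a => (f (a, 0)).1) (ψ := fun a => (f (0, a)).2) e he
      (fun a b => by rw [hh, hp, hq, zero_add, add_zero])
    refine ⟨false, σ, α, β, ha, hb, fun a b => ?_, k3⟩
    rw [hf]
    exact Prod.ext (by simp [hq, k1]) (by simp [hp, k2])
  · exact absurd (by simpa [hp, hq] using hh 1 1) h1

variable (Γ : Lz G)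

theorem u_split (a b c : F4) : Γ.u a b c = Γ.u 0 b 0 * Γ.u a 0 c := by simp [Γ.u_mul]

theorem aut1 {g : G} (hg : g ∈ Γ.N) (hz : ∀ c, g * Γ.z c * g⁻¹ = Γ.z c) {d : F4}
    (e : g * Γ.u 1 0 0 * g⁻¹ = Γ.u 1 0 d) (a : F4) : g * Γ.u a 0 0 * g⁻¹ = Γ.u a 0 (a * d) := by
  have h1 : ∀ a, g * Γ.n false * g⁻¹ * Γ.z a * (g * Γ.n false * g⁻¹)⁻¹ = g * Γ.u a 0 0 * g⁻¹ := fun a => by
    conv_lhs => rw [← hz a]
    rw [← Γ.n0 0 a]; group
  have h2 : ∀ a, Γ.u 0 d 0 * Γ.n false * Γ.z a * (Γ.u 0 d 0 * Γ.n false)⁻¹ = Γ.u a 0 (a * d) := fun a => by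
    rw [← cj_cj, Γ.n0, Γ.u_conj]; simp
  obtain ⟨k, hk, a', b', c', h3⟩ := Γ.cenL ((Γ.u 0 d 0 * Γ.n false)⁻¹ * (g * Γ.n false * g⁻¹))
    (mul_mem (inv_mem (mul_mem (Γ.uL ..) (Γ.nL _))) (Γ.N_conj_L hg (Γ.nL _))) 1 one_ne_zero (by
      apply comm_of_cj
      rw [← cj_cj, h1, e, ← one_mul d, ← h2]; group)
  rw [← h1, ← h2, inv_mul_eq_iff_eq_mul.1 h3, ← cj_cj, ← cj_cj k, cj_of_comm (Γ.z_comm a' b' c' a).symm,
    Γ.conj_of_K hk (Γ.uL ..)]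

theorem cen_U' {a b c : F4} (e : ∀ a' b' c', Γ.u a b c * Γ.u a' b' c' = Γ.u a' b' c' * Γ.u a b c) :
    Γ.u a b c = Γ.z c := by
  have h1 := Γ.u_comm_iff.1 (e 1 0 0)
  have h2 := Γ.u_comm_iff.1 (e 0 1 0)
  simp only [mul_zero, one_mul, mul_one, zero_mul] at h1 h2
  rw [← h1, h2]

theorem cen_U {l : G} (hl : l ∈ Γ.L) (e : ∀ a b c, l * Γ.u a b c = Γ.u a b c * l) :
    ∃ k ∈ Γ.K, ∃ c, l = k * Γ.z c := by
  obtain ⟨k, hk, a, b, c, rfl⟩ := Γ.cenL l hl 1 one_ne_zero (e 0 0 1)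
  exact ⟨k, hk, c, by rw [cen_U' Γ fun a' b' c' => mul_left_cancel (a := k) (by
    rw [← mul_assoc, e, ← mul_assoc, ← mul_assoc, Γ.comm hk (Γ.uL ..)])]⟩

theorem hu' (a b c : F4) : Γ.h⁻¹ * Γ.u a b c * Γ.h = Γ.u (F4.w * a) (F4.w * b) (F4.v * c) := by
  have : Γ.u a b c = Γ.h * Γ.u (F4.w * a) (F4.w * b) (F4.v * c) * Γ.h⁻¹ := by
    rw [Γ.hu]; exact Γ.u_congr (by revert a; decide) (by revert b; decide) (by revert c; decide)
  rw [this]; group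

theorem aut3 {g k : G} (hg : g ∈ Γ.N) (e : ∀ a b c, g * Γ.u a b c = Γ.u a b c * g) (hk : k ∈ Γ.K)
    (eh : g * Γ.h * g⁻¹ = k * Γ.h) : g ∈ Γ.K := by
  have hn : ∀ i, ∃ k ∈ Γ.K, g * Γ.n i * g⁻¹ = Γ.n i * k := fun i => by
    have hz : ∃ a b c, Γ.n i * Γ.z 1 * (Γ.n i)⁻¹ = Γ.u a b c := by
      cases i
      · exact ⟨_, _, _, Γ.n0 0 1⟩
      · exact ⟨_, _, _, Γ.n1 0 1⟩
    obtain ⟨a, b, c, hz⟩ := hz
    obtain ⟨k', hk', a', b', c', h3⟩ := Γ.cenL ((Γ.n i)⁻¹ * (g * Γ.n i * g⁻¹))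
      (mul_mem (inv_mem (Γ.nL _)) (Γ.N_conj_L hg (Γ.nL _))) 1 one_ne_zero (by
        apply comm_of_cj
        calc _ = (Γ.n i)⁻¹ * (g * (Γ.n i * (g⁻¹ * Γ.z 1 * g) * (Γ.n i)⁻¹) * g⁻¹) * Γ.n i := by group
          _ = _ := by
            rw [mul_assoc g⁻¹, ← e, inv_mul_cancel_left, hz, cj_of_comm (e a b c), ← hz]; group)
    have h4 : Γ.u a' b' c' * Γ.h * (Γ.u a' b' c')⁻¹ = Γ.h := by
      obtain ⟨ζ, -, hζ, e1⟩ := Γ.nh i
      have k1 := Γ.N_conj_K (inv_mem hg) hk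
      have k2 := Γ.N_conj_K hg hζ
      have e2 : g⁻¹ * Γ.h * g = (g⁻¹ * k * g⁻¹⁻¹)⁻¹ * Γ.h := by
        rw [eq_inv_mul_iff_mul_eq]
        calc _ = g⁻¹ * (k * Γ.h) * g := by group
          _ = _ := by rw [← eh]; group
      have e3 : Γ.u a' b' c' * Γ.h * (Γ.u a' b' c')⁻¹ = k⁻¹ * (g * ζ * g⁻¹) * (k * k) * ζ⁻¹ * Γ.h :=
        calc _ = k' * Γ.u a' b' c' * Γ.h * (k' * Γ.u a' b' c')⁻¹ := by
              rw [← cj_cj, Γ.conj_of_K hk' (Γ.N_conj_L (Γ.L_le_N (Γ.uL ..)) Γ.hL)]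
          _ = (Γ.n i)⁻¹ * (g * (Γ.n i * (g⁻¹ * Γ.h * g) * (Γ.n i)⁻¹) * g⁻¹) * Γ.n i := by rw [← h3]; group
          _ = (Γ.n i)⁻¹ * (k⁻¹ * (g * ζ * g⁻¹) * (k * k) * ζ⁻¹ * (Γ.n i * Γ.h * (Γ.n i)⁻¹)) * (Γ.n i)⁻¹⁻¹ := by
            rw [e2, Γ.conj_ka (inv_mem k1) (Γ.nL i), e1, cj_mul', cj_mul', cj_mul', eh, Γ.mul_mul k _ hk Γ.hL]; group
          _ = _ := by
            rw [Γ.conj_ka (mul_mem (mul_mem (mul_mem (inv_mem hk) k2) (mul_mem hk hk)) (inv_mem hζ))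
              (inv_mem (Γ.nL i))]; group
      refine mul_inv_eq_one.1 (Γ.UK ?_ ?_)
      · rw [mul_assoc, mul_assoc, ← mul_assoc Γ.h, Γ.u_inv, Γ.hu]; exact mul_mem (Γ.u_mem ..) (Γ.u_mem ..)
      · rw [e3, mul_inv_cancel_right]
        exact mul_mem (mul_mem (mul_mem (inv_mem hk) k2) (mul_mem hk hk)) (inv_mem hζ)
    have h5 := Γ.hu a' b' c'
    rw [cj_of_comm (comm_of_cj h4).symm] at h5
    have key : ∀ a : F4, (a = F4.v * a ∨ a = F4.w * a) → a = 0 := by decide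
    obtain ⟨k1, k2, k3⟩ := Γ.u_inj h5
    rw [key _ (.inl k1), key _ (.inl k2), key _ (.inr k3), Γ.u_zero] at h3
    exact ⟨k', hk', by rw [inv_mul_eq_iff_eq_mul.1 h3, mul_one]⟩
  have := Γ.gen (centralizer {g}) (fun a b c => mem_centralizer_singleton_iff.2 (e a b c).symm)
    fun i a b c => mem_centralizer_singleton_iff.2 (comm_of_cj (by
      obtain ⟨k, hk, e'⟩ := hn i
      rw [cj_cj, show g * Γ.n i = Γ.n i * k * g by rw [← e']; group, ← cj_cj, ← cj_cj, cj_of_comm (e ..),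
        Γ.conj_of_K hk (Γ.uL ..)])).symm
  exact fun l hl => mem_centralizer_singleton_iff.1 (this hl)

theorem aut2 {g : G} (hg : g ∈ Γ.N) (e : ∀ a b c, g * Γ.u a b c = Γ.u a b c * g) :
    ∃ k ∈ Γ.K, ∃ c, g = k * Γ.z c := by
  obtain ⟨k, hk, d, hd⟩ := cen_U Γ (l := Γ.h⁻¹ * (g * Γ.h * g⁻¹)) (mul_mem (inv_mem Γ.hL) (Γ.N_conj_L hg Γ.hL))
    fun a b c => by
      apply comm_of_cj
      calc _ = Γ.h⁻¹ * (g * (Γ.h * (g⁻¹ * Γ.u a b c * g) * Γ.h⁻¹) * g⁻¹) * Γ.h := by group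
        _ = _ := by rw [mul_assoc g⁻¹, ← e, inv_mul_cancel_left, Γ.hu, cj_of_comm (e ..), ← Γ.hu]; group
  have h1 : g * Γ.h * g⁻¹ = k * (Γ.h * Γ.z d) := by
    rw [inv_mul_eq_iff_eq_mul.1 hd, ← mul_assoc, ← mul_assoc, Γ.comm hk Γ.hL]
  have h2 : Γ.z (F4.v * d) * Γ.h * (Γ.z (F4.v * d))⁻¹ = Γ.h * Γ.z d := by
    calc _ = Γ.h * (Γ.h⁻¹ * Γ.z (F4.v * d) * Γ.h * (Γ.z (F4.v * d))⁻¹) := by group
      _ = _ := by
        rw [hu', Γ.z_inv, Γ.u_mul_z]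
        exact congrArg _ (Γ.u_congr (mul_zero _) (mul_zero _) (by clear hd h1; revert d; decide))
  refine ⟨(Γ.z (F4.v * d))⁻¹ * g, aut3 Γ (mul_mem (inv_mem (Γ.L_le_N (Γ.uL ..))) hg) (fun a b c => ?_) hk ?_,
    F4.v * d, ?_⟩
  · rw [mul_assoc, e, Γ.z_inv, ← mul_assoc, Γ.z_comm, mul_assoc]
  · rw [← cj_cj, h1, Γ.conj_ka hk (inv_mem (Γ.uL ..)), ← h2]; group
  · rw [mul_assoc, e, inv_mul_cancel_left]

theorem fin_U : Finite (Γ.U : Set G) := Nat.finite_of_card_ne_zero (Γ.card_U ▸ by decide : Nat.card Γ.U ≠ 0)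
theorem fin_V : Finite (Γ.V : Set G) := Nat.finite_of_card_ne_zero (Γ.card_V ▸ by decide : Nat.card Γ.V ≠ 0)
theorem fin_Y : Finite (Γ.Y : Set G) := Nat.finite_of_card_ne_zero (Γ.card_Y ▸ by decide : Nat.card Γ.Y ≠ 0)

theorem norm_U_of {g : G} (h : ∀ a b c, g * Γ.u a b c * g⁻¹ ∈ Γ.U) : g ∈ normalizer (Γ.U : Set G) :=
  haveI := fin_U Γ
  mem_normalizer_fintype (by rintro _ ⟨a, b, c, rfl⟩; exact h a b c)
theorem norm_V_of {g : G} (h : ∀ a c, g * Γ.u a 0 c * g⁻¹ ∈ Γ.V) : g ∈ normalizer (Γ.V : Set G) :=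
  haveI := fin_V Γ
  mem_normalizer_fintype (by rintro _ ⟨a, c, rfl⟩; exact h a c)
theorem norm_Y_of {g : G} (h : ∀ c, g * Γ.z c * g⁻¹ ∈ Γ.Y) : g ∈ normalizer (Γ.Y : Set G) :=
  haveI := fin_Y Γ
  mem_normalizer_fintype (by rintro _ ⟨c, rfl⟩; exact h c)

theorem h_V : Γ.h ∈ normalizer (Γ.V : Set G) := norm_V_of Γ fun a c => by
  rw [Γ.hu, mul_zero]; exact Γ.v_mem ..
theorem h_U : Γ.h ∈ normalizer (Γ.U : Set G) := norm_U_of Γ fun a b c => by rw [Γ.hu]; exact Γ.u_mem ..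
theorem h_Y : Γ.h ∈ normalizer (Γ.Y : Set G) := norm_Y_of Γ fun c => by rw [Γ.hz]; exact Γ.z_mem ..
theorem n_V : Γ.n false ∈ normalizer (Γ.V : Set G) := norm_V_of Γ fun a c => by rw [Γ.n0]; exact Γ.v_mem ..
theorem u_V (a b c : F4) : Γ.u a b c ∈ normalizer (Γ.V : Set G) := norm_V_of Γ fun a c => by
  rw [Γ.u_conj]; exact Γ.v_mem ..

theorem conj_z {c : F4} (h : c ≠ 0) :
    ∃ m ∈ Γ.L, m ∈ normalizer (Γ.V : Set G) ∧ m * Γ.z 1 * m⁻¹ = Γ.z c := by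
  cases c
  · exact absurd rfl h
  · exact ⟨1, one_mem _, one_mem _, by rw [one_mul, inv_one, mul_one]; rfl⟩
  · exact ⟨Γ.h, Γ.hL, h_V Γ, Γ.hz 1⟩
  · exact ⟨Γ.h * Γ.h, mul_mem Γ.hL Γ.hL, mul_mem (h_V Γ) (h_V Γ), by rw [← cj_cj, Γ.hz, Γ.hz]; rfl⟩

theorem norm_Y {g : G} (hg : g ∈ normalizer (Γ.U : Set G)) (c : F4) : ∃ d, g * Γ.z c * g⁻¹ = Γ.z d := by
  obtain ⟨a₀, b₀, c₀, e⟩ := (mem_normalizer_iff.1 hg _).1 (Γ.u_mem 0 0 c)
  refine ⟨c₀, e.trans (cen_U' Γ fun a b c' => ?_)⟩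
  rw [← e]
  obtain ⟨a', b', c'', h⟩ := (mem_normalizer_iff''.1 hg _).1 (Γ.u_mem a b c')
  have := cm_cj g (Γ.z_comm a' b' c'' c)
  rwa [← h, show g * (g⁻¹ * Γ.u a b c' * g) * g⁻¹ = Γ.u a b c' by group] at this

theorem pow_one {α : F4} {k : ℕ} (h : α ^ 2 ^ k = 1) : α = 1 := by
  induction k with
  | zero => simpa using h
  | succ k ih =>
    have key : ∀ x : F4, x * x = 1 → x = 1 := by decide
    exact ih (key _ (by rw [← pow_two, ← pow_mul, ← pow_succ, h]))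

theorem two1 {t : G} {γ a b f : F4} (ht : t * t = 1) (hγ : γ ≠ 0) (hz : ∀ c, t * Γ.z c * t⁻¹ = Γ.z (γ * (c * c)))
    (hab : a * b = γ * γ) (e : t * Γ.u a b 0 * t⁻¹ = Γ.u a b f) :
    ∃ c ≠ 0, (∃ x ∈ Γ.U, x * t * x⁻¹ = t * Γ.z c) ∧ ∃ x ∈ Γ.U, x * t = t * x ∧ x * x = Γ.z c := by
  have k1 : ∀ γ : F4, γ ≠ 0 → ∃ d, γ * (d * d) + d = γ * γ := by decide
  have k2 : ∀ γ f : F4, γ ≠ 0 → 0 = f + γ * (f * f) → ∃ d, f + γ * (d * d) = d := by decide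
  have hu : ∀ d, t * Γ.u a b d * t⁻¹ = Γ.u a b (f + γ * (d * d)) := fun d => by
    rw [← Γ.u_mul_z, ← e, ← hz, ← cj_mul', Γ.u_mul_z, zero_add]
  obtain ⟨d, hd⟩ := k1 γ hγ
  obtain ⟨d', hd'⟩ := k2 γ f hγ (by
    have := hu f
    rw [← e, cj_cj, ht, one_mul, inv_one, mul_one] at this
    exact (Γ.u_inj this).2.2)
  refine ⟨γ * γ, mul_ne_zero hγ hγ, ⟨Γ.z d, Γ.u_mem .., ?_⟩, Γ.u a b d', Γ.u_mem .., ?_, by rw [Γ.u_sq, hab]⟩
  · rw [← hd, ← Γ.z_mul, ← hz, Γ.z_inv, inv_of_sq ht, ← mul_assoc, ← mul_assoc, ← mul_assoc, ht, one_mul]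
  · exact (comm_of_cj (by rw [hu, hd'])).symm

end Bas

open Bas

/-- PROOF. The two axes are subgroups contained in `{p | p.1 * p.2 = 0}`, so `f` maps each axis into an axis
(if `f (a, 0)` and `f (a', 0)` lie on different axes look at the sum), and not both into the same one. In the
first case `f (a, 0) = (φ a, 0)`, `f (0, b) = (0, ψ b)`, `e (a * b) = φ a * ψ b`; put `α = φ 1`, `β = ψ 1`; an
additive injective map of `F4` is `c ↦ e 1 * fr σ c` (look at the images of `1`, `w`). -/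
theorem ty_abs (f : F4 × F4 →+ F4 × F4) (e : F4 →+ F4) (hf : Function.Injective f) (he : Function.Injective e)
    (h : ∀ p, e (p.1 * p.2) = (f p).1 * (f p).2) :
    ∃ (s σ : Bool) (α β : F4), α ≠ 0 ∧ β ≠ 0 ∧ (∀ a b, f (a, b) =
      cond s (β * fr σ b, α * fr σ a) (α * fr σ a, β * fr σ b)) ∧ ∀ c, e c = α * β * fr σ c := by
  have _ := hf
  exact ty_abs' f e he h

namespace Lz

variable (Γ : Lz G)

/-- PROOF. `g` fixes every `z c` (a commutator). `g u a 0 0 g⁻¹ = u a 0 (φ a)`. Put `m = g (n false) g⁻¹ ∈ L`,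
`k = u 0 (φ 1) 0`; `u a 0 0 = n z a n⁻¹`, so `(k n)⁻¹ m` centralises `z 1`, lies in `U` (`cenL`), centralises all
`z a`; hence `φ a = a * φ 1`. Same on the other side (`Γ.sw`). So `g' = (u a₀ b₀ 0)⁻¹ g` centralises `U`.
`h⁻¹ g' h g'⁻¹ ∈ C_L(U) = Y`; correct by some `z c` so that `g''` also centralises `h`. `(n i)⁻¹ g'' (n i) g''⁻¹`
centralises `z 1`, so is `x ∈ U`, and `nh` shows that `x` centralises `h`, so `x = 1`. Now `le_of_gen` for the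
centraliser of `g''`. -/
theorem aut {g : G} (hg : g ∈ Γ.N) (e : ∀ a b c, ∃ d, g * Γ.u a b c * g⁻¹ = Γ.u a b d) :
    ∃ k ∈ Γ.K, ∃ a b c, g = k * Γ.u a b c := by
  have hz : ∀ c, g * Γ.z c * g⁻¹ = Γ.z c := fun c => by
    obtain ⟨d, hd⟩ := e 1 c 0
    have := Γ.u_sq 1 c d
    rw [← hd, ← cj_mul', Γ.u_sq, one_mul] at this
    exact this
  obtain ⟨d, hd⟩ := e 1 0 0
  obtain ⟨d', hd'⟩ := e 0 1 0
  have h1 := aut1 Γ hg hz hd
  have h2 := aut1 Γ.sw hg (fun c => by simpa only [Γ.sw_z] using hz c) (d := d') (by simpa using hd')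
  simp only [sw_v] at h2
  obtain ⟨k, hk, c, hc⟩ := aut2 Γ (g := (Γ.u d' d 0)⁻¹ * g) (mul_mem (inv_mem (Γ.L_le_N (Γ.uL ..))) hg)
    fun a b c => by
      apply comm_of_cj
      have : g * Γ.u a b c * g⁻¹ = Γ.u d' d 0 * Γ.u a b c * (Γ.u d' d 0)⁻¹ := by
        rw [Γ.u_conj, u_split Γ a b c, ← zero_add c, ← Γ.u_mul_z, cj_mul', cj_mul', h1, h2, hz, Γ.u_mul_z, Γ.u_mul]
        exact Γ.u_congr (zero_add _) (add_zero _) (by ring)
      rw [← cj_cj, this]; group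
  rw [inv_mul_eq_iff_eq_mul, ← mul_assoc, ← Γ.comm hk (Γ.uL ..), mul_assoc, Γ.u_mul_z] at hc
  exact ⟨k, hk, _, _, _, hc⟩

/-- PROOF. `g` normalises `C_L(z 1) = U`. -/
theorem norm_U {g : G} (hg : g ∈ Γ.N) (hY : g ∈ normalizer (Γ.Y : Set G)) : g ∈ normalizer (Γ.U : Set G) := by
  refine norm_U_of Γ fun a b c => (pow_two_of_mem Γ.pU (Γ.u_mem a b c)).elim fun m e => Γ.mem_U_of_cen
    (Γ.N_conj_L hg (Γ.uL ..)) (m := m) (by rw [conj_pow, e]; group) one_ne_zero ?_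
  obtain ⟨d, h⟩ := (mem_normalizer_iff''.1 hY _).1 (Γ.z_mem 1)
  have := cm_cj g (Γ.z_comm a b c d)
  rw [← h, show g * (g⁻¹ * Γ.z 1 * g) * g⁻¹ = Γ.z 1 by group] at this
  exact this.symm

/-- PROOF. `g` normalises `U`; `g u 0 b 0 g⁻¹ = u a' b' c'`, the commutator with `u 1 0 0` gives `b' = b`, the
square gives `a' = 0`; now `aut`. -/
theorem cenV {g : G} (hg : g ∈ Γ.N) (e : ∀ a c, g * Γ.u a 0 c = Γ.u a 0 c * g) :
    ∃ k ∈ Γ.K, ∃ a c, g = k * Γ.u a 0 c := by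
  have hU := Γ.norm_U hg (norm_Y_of Γ fun c => by rw [cj_of_comm (e 0 c)]; exact Γ.z_mem c)
  have h1 : ∀ b, ∃ d, g * Γ.u 0 b 0 * g⁻¹ = Γ.u 0 b d := fun b => by
    obtain ⟨a', b', c', h⟩ := (mem_normalizer_iff.1 hU _).1 (Γ.u_mem 0 b 0)
    have k1 : Γ.u 1 0 0 * Γ.u 0 b 0 = Γ.u 0 b 0 * Γ.u 1 0 b := by simp [Γ.u_mul]
    have k2 : g * (Γ.u 1 0 0 * Γ.u 0 b 0) * g⁻¹ = g * (Γ.u 0 b 0 * Γ.u 1 0 b) * g⁻¹ := by rw [k1]
    rw [cj_mul', cj_mul', h, cj_of_comm (e 1 0), cj_of_comm (e 1 b), Γ.u_mul, Γ.u_mul] at k2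
    have k3 : b' = b := by simpa using (Γ.u_inj k2).2.2
    subst k3
    by_cases hb : b' = 0
    · subst hb
      exact ⟨0, by rw [Γ.u_zero]; group⟩
    · have k4 := sq_cj g (a := Γ.u 0 b' 0) (by rw [Γ.u_sq, zero_mul]; exact Γ.u_zero)
      rw [h, Γ.u_sq, Γ.z_eq_one] at k4
      exact ⟨c', by rw [h, (mul_eq_zero.1 k4).resolve_right hb]⟩
  obtain ⟨k, hk, a, b, c, rfl⟩ := Γ.aut hg fun a b c => by
    obtain ⟨d, hd⟩ := h1 b
    exact ⟨d + c + 0 * 0, by rw [u_split Γ a b c, cj_mul', hd, cj_of_comm (e a c), Γ.u_mul, zero_add, add_zero]⟩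
  have h2 := e 1 0
  rw [← mul_assoc, ← Γ.comm hk (Γ.uL ..), mul_assoc, mul_assoc, mul_right_inj, Γ.u_comm_iff] at h2
  exact ⟨k, hk, a, c, by rw [show b = 0 by simpa using h2.symm]⟩

/-- PROOF. `cenV` on both sides and `ext`. -/
theorem cenU {g : G} (hg : g ∈ Γ.N) (e : ∀ a b c, g * Γ.u a b c = Γ.u a b c * g) :
    ∃ k ∈ Γ.K, ∃ c, g = k * Γ.z c :=
  aut2 Γ hg e

/-- PROOF. `n false`, `h` and `u 0 b 0` act transitively on the non-zero vectors `(a, c)`. -/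
theorem conj_V {a c : F4} (h : a ≠ 0 ∨ c ≠ 0) :
    ∃ m ∈ Γ.L, m ∈ normalizer (Γ.V : Set G) ∧ m * Γ.z 1 * m⁻¹ = Γ.u a 0 c := by
  by_cases ha : a = 0
  · subst ha
    exact conj_z Γ (h.resolve_left fun h => h rfl)
  · obtain ⟨m, h1, h2, h3⟩ := conj_z Γ ha
    refine ⟨Γ.u 0 (c / a) 0 * Γ.n false * m, mul_mem (mul_mem (Γ.uL ..) (Γ.nL _)) h1,
      mul_mem (mul_mem (u_V Γ _ _ _) (n_V Γ)) h2, ?_⟩
    rw [← cj_cj, ← cj_cj, h3, Γ.n0, Γ.u_conj]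
    exact Γ.u_congr rfl rfl (by field_simp; ring)

/-- PROOF. Sylow (`sylU.exists_conj_le`), `u_sq`, `conj_V` on both sides. -/
theorem inv_conj [Finite G] {l : G} (hl : l ∈ Γ.L) (h2 : l * l = 1) (h1 : l ≠ 1) :
    ∃ m ∈ Γ.L, m * Γ.z 1 * m⁻¹ = l := by
  obtain ⟨x, hx, h⟩ := Γ.sylU.exists_conj_le (pg_zpowers (g := l) (n := 1) (by simpa [pow_two] using h2))
    (zpowers_le.2 hl)
  obtain ⟨a, b, c, e⟩ := h (conj_mem_cj (mem_zpowers l))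
  have k1 := sq_cj x h2
  have k2 := cj_ne x h1
  rw [e] at k1 k2
  rw [Γ.u_sq, Γ.z_eq_one] at k1
  have : ∃ m ∈ Γ.L, m * Γ.z 1 * m⁻¹ = Γ.u a b c := by
    rcases mul_eq_zero.1 k1 with rfl | rfl
    · obtain ⟨m, hm, -, hm'⟩ := Γ.sw.conj_V (a := b) (c := c) (by
        by_contra hc; push Not at hc; exact k2 (Γ.u_eq_one.2 ⟨rfl, hc⟩))
      exact ⟨m, hm, by simpa only [sw_z, sw_v] using hm'⟩
    · obtain ⟨m, hm, -, hm'⟩ := Γ.conj_V (a := a) (c := c) (by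
        by_contra hc; push Not at hc; exact k2 (Γ.u_eq_one.2 ⟨hc.1, rfl, hc.2⟩))
      exact ⟨m, hm, hm'⟩
  obtain ⟨m, hm, hm'⟩ := this
  exact ⟨x⁻¹ * m, mul_mem (inv_mem hx) hm, by rw [← cj_cj, hm', ← e]; group⟩

/-- PROOF. A Sylow 2-subgroup `P ≥ D` of `D ⊔ L` meets the normal subgroup `L` in a Sylow subgroup `l •ᶜ U`. -/
theorem frame [Finite G] {D : Subgroup G} (hD : IsPGroup 2 D) (hN : D ≤ Γ.N) :
    ∃ l ∈ Γ.L, D ≤ normalizer ((Γ.cj l).U : Set G) := by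
  obtain ⟨P, hP, hDP⟩ := exists_sylIn_ge hD (le_sup_left : D ≤ D ⊔ Γ.L)
  obtain ⟨l, hl, e⟩ := Γ.sylU.exists_conj (hP.inf_normal_of_le (sup_le hN Γ.L_le_N) le_sup_right)
  exact ⟨l, hl, by rw [cj_U, e]; exact le_normalizer_inf (hDP.trans le_normalizer) hN⟩

/-- PROOF. `X ⊔ U` is a 2-subgroup of `L`; `syl`. -/
theorem mem_U_of {g : G} (hg : g ∈ Γ.L) (hN : g ∈ normalizer (Γ.U : Set G)) {k : ℕ} (e : g ^ 2 ^ k = 1) :
    g ∈ Γ.U :=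
  Γ.sylU.le_of_normalizes (pg_zpowers e) (zpowers_le.2 hg) (zpowers_le.2 hN) (mem_zpowers g)

/-- PROOF. `Y` is the centre of `U`; apply `ty_abs` to the maps induced on `U / Y` and `Y`, `u_sq`. -/
theorem exists_ty {g : G} (hg : g ∈ normalizer (Γ.U : Set G)) : ∃ s σ α β, Γ.Ty g s σ α β := by
  choose A B C hu using fun a b c => (mem_normalizer_iff.1 hg _).1 (Γ.u_mem a b c)
  choose E hE using norm_Y Γ hg
  have h1 : ∀ a b c, g * Γ.u a b c * g⁻¹ = Γ.u (A a b 0) (B a b 0) (C a b 0 + E c) := fun a b c => by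
    rw [← Γ.u_mul_z, ← hu, ← hE, ← cj_mul', Γ.u_mul_z, zero_add]
  have h2 : ∀ p q : F4 × F4, (A (p + q).1 (p + q).2 0, B (p + q).1 (p + q).2 0) =
      (A p.1 p.2 0, B p.1 p.2 0) + (A q.1 q.2 0, B q.1 q.2 0) := fun p q => by
    have := cj_mul' g (Γ.u p.1 p.2 0) (Γ.u q.1 q.2 0)
    rw [Γ.u_mul, h1, hu, hu, Γ.u_mul] at this
    exact Prod.ext (Γ.u_inj this).1 (Γ.u_inj this).2.1
  have h3 : ∀ c d, E (c + d) = E c + E d := fun c d => Γ.z_inj (by rw [← Γ.z_mul, ← hE, ← hE, ← hE, ← Γ.z_mul, cj_mul'])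
  obtain ⟨s, σ, α, β, ha, hb, k1, k2⟩ := ty_abs' (AddMonoidHom.mk' (fun p => (A p.1 p.2 0, B p.1 p.2 0)) h2)
    (AddMonoidHom.mk' E h3) (fun c d e => Γ.z_inj (by
      have : g * Γ.z c * g⁻¹ = g * Γ.z d * g⁻¹ := by rw [hE, hE]; exact congrArg _ e
      simpa using this)) fun p => Γ.z_inj (by
      change Γ.z (E _) = Γ.z (A _ _ _ * B _ _ _)
      rw [← hE, ← Γ.u_sq _ _ 0, cj_mul', hu, Γ.u_sq])
  refine ⟨s, σ, α, β, ha, hb, fun a b c => ⟨C a b 0 + E c, ?_⟩, fun c => by rw [hE]; exact congrArg _ (k2 c)⟩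
  have := k1 a b
  rw [h1]
  cases s <;> exact Γ.u_congr (congrArg Prod.fst this) (congrArg Prod.snd this) rfl

variable {Γ}

theorem Ty.mul {g g' : G} {s σ s' σ' : Bool} {α β α' β' : F4} (h : Γ.Ty g s σ α β) (h' : Γ.Ty g' s' σ' α' β') :
    ∃ α'' β'', Γ.Ty (g * g') (xor s s') (xor σ σ') α'' β'' := by
  refine ⟨cond s' β α * fr σ α', cond s' α β * fr σ β', mul_ne_zero ?_ (fr_ne σ h'.a0),
    mul_ne_zero ?_ (fr_ne σ h'.b0), fun a b c => ?_, fun c => ?_⟩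
  · cases s' <;> [exact h.a0; exact h.b0]
  · cases s' <;> [exact h.b0; exact h.a0]
  · obtain ⟨d, hd⟩ := h'.u a b c
    rw [← cj_cj, hd]
    cases s' <;> simp only [cond_true, cond_false]
    · obtain ⟨d', hd'⟩ := h.u (α' * fr σ' a) (β' * fr σ' b) d
      refine ⟨d', hd'.trans ?_⟩
      cases s <;> simp [fr_mul, fr_fr, mul_assoc]
    · obtain ⟨d', hd'⟩ := h.u (β' * fr σ' b) (α' * fr σ' a) d
      refine ⟨d', hd'.trans ?_⟩
      cases s <;> simp [fr_mul, fr_fr, mul_assoc]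
  · rw [← cj_cj, h'.z, h.z, fr_mul, fr_mul, fr_fr]
    cases s' <;> exact congrArg _ (by simp only [cond_true, cond_false]; ring)

theorem Ty.unique {g : G} {s σ s' σ' : Bool} {α β α' β' : F4} (h : Γ.Ty g s σ α β) (h' : Γ.Ty g s' σ' α' β') :
    s = s' ∧ σ = σ' ∧ α = α' ∧ β = β' := by
  have z1 := Γ.z_inj ((h.z 1).symm.trans (h'.z 1))
  have z2 := Γ.z_inj ((h.z F4.w).symm.trans (h'.z F4.w))
  rw [fr_one, fr_one, mul_one, mul_one] at z1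
  rw [z1, mul_right_inj' (mul_ne_zero h'.a0 h'.b0)] at z2
  obtain ⟨d, e1⟩ := h.u 1 0 0
  obtain ⟨d', e1'⟩ := h'.u 1 0 0
  obtain ⟨f, e2⟩ := h.u 0 1 0
  obtain ⟨f', e2'⟩ := h'.u 0 1 0
  have k1 := e1.symm.trans e1'
  have k2 := e2.symm.trans e2'
  have hσ : σ = σ' := by revert z2; cases σ <;> cases σ' <;> decide
  simp only [fr_one, fr_zero, mul_one, mul_zero] at k1 k2
  cases s <;> cases s' <;> simp only [cond_true, cond_false] at k1 k2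
  · exact ⟨rfl, hσ, (Γ.u_inj k1).1, (Γ.u_inj k2).2.1⟩
  · exact absurd (Γ.u_inj k1).1 h.a0
  · exact absurd (Γ.u_inj k1).2.1 h.a0
  · exact ⟨rfl, hσ, (Γ.u_inj k1).2.1, (Γ.u_inj k2).1⟩

/-- PROOF. `g ^ 2 ^ k` multiplies the coordinates by `α ^ 2 ^ k`, `β ^ 2 ^ k`, so `α = β = 1`; `aut`. -/
theorem Ty.inner {g : G} {α β : F4} (h : Γ.Ty g false false α β) (hg : g ∈ Γ.N) {k : ℕ} (e : g ^ 2 ^ k ∈ Γ.K) :
    ∃ k ∈ Γ.K, ∃ a b c, g = k * Γ.u a b c := by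
  have h1 : ∀ n : ℕ, ∀ a b c, ∃ d, g ^ n * Γ.u a b c * (g ^ n)⁻¹ = Γ.u (α ^ n * a) (β ^ n * b) d := fun n => by
    induction n with
    | zero => exact fun a b c => ⟨c, by simp⟩
    | succ n ih =>
      intro a b c
      obtain ⟨d, hd⟩ := ih a b c
      obtain ⟨d', hd'⟩ := h.u (α ^ n * a) (β ^ n * b) d
      exact ⟨d', by rw [pow_succ', ← cj_cj, hd, hd', pow_succ', pow_succ', mul_assoc, mul_assoc]; rfl⟩
  obtain ⟨d, hd⟩ := h1 (2 ^ k) 1 1 0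
  rw [Γ.conj_of_K e (Γ.uL ..), mul_one, mul_one] at hd
  obtain rfl := pow_one (Γ.u_inj hd).1.symm
  obtain rfl := pow_one (Γ.u_inj hd).2.1.symm
  exact Γ.aut hg fun a b c => by simpa [fr_false] using h.u a b c

/-- PROOF. `g = k l`, `l ∈ L` normalises `U` and `l ^ 2 ^ k ∈ L ⊓ K = 1`; `mem_U_of`. -/
theorem Inn.mem {g : G} (h : Γ.Inn g) (hN : g ∈ normalizer (Γ.U : Set G)) {k : ℕ} (e : g ^ 2 ^ k ∈ Γ.K) :
    ∃ k ∈ Γ.K, ∃ a b c, g = k * Γ.u a b c := by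
  obtain ⟨k', hk, l, hl, rfl⟩ := h
  have h1 : k' ∈ normalizer (Γ.U : Set G) := centralizer_le_normalizer _ (centralizer_le Γ.U_le_L hk)
  rw [Commute.mul_pow (Γ.comm hk hl), mul_mem_cancel_left (pow_mem hk _)] at e
  have e3 := Γ.LK _ (pow_mem hl _) e
  have hN' := (mul_mem_cancel_left h1).1 hN
  obtain ⟨a, b, c, e4⟩ := Γ.mem_U_of (g := l * (l ^ 2 ^ k) ^ 2 ^ (k + 1)) (mul_mem hl (pow_mem (pow_mem hl _) _))
    (mul_mem hN' (pow_mem (centralizer_le_normalizer _ (centralizer_le Γ.U_le_L e)) _)) (k := k) (by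
      have key : ∀ x : G, x * x * x = 1 → ∀ m, x * (x ^ 2 ^ (m + 1)) ^ 2 ^ m = 1 := fun x hx m => by
        induction m with
        | zero => simpa [pow_two, mul_assoc] using hx
        | succ m ih =>
          rw [← pow_mul] at ih ⊢
          rw [show 2 ^ (m + 1 + 1) * 2 ^ (m + 1) = 2 ^ (m + 1) * 2 ^ m + 3 * (2 ^ (m + 1) * 2 ^ m) by ring, pow_add,
            ← mul_assoc, ih, pow_mul, pow_three', hx, one_pow, one_mul]
      rw [Commute.mul_pow (((Commute.refl l).pow_right _).pow_right _), key _ e3])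
  exact ⟨k' * ((l ^ 2 ^ k) ^ 2 ^ (k + 1))⁻¹, mul_mem hk (inv_mem (pow_mem e _)), a, b, c, by
    rw [← e4, (((Commute.refl l).pow_right _).pow_right _).eq]; group⟩

/-- PROOF. `frame` for `zpowers g`, `exists_ty`, `Ty.mul`, `Ty.inner` in `Γ.cj l`. -/
theorem ev [Finite G] {g : G} (hg : g ∈ Γ.N) {k : ℕ} (e : g ^ 2 ^ k = 1) : Γ.Inn (g * g) := by
  obtain ⟨l, hl, h⟩ := Γ.frame (pg_zpowers e) (zpowers_le.2 hg)
  have hN := Γ.L_le_N hl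
  obtain ⟨s, σ, α, β, h1⟩ := (Γ.cj l).exists_ty (h (mem_zpowers g))
  obtain ⟨α', β', h2⟩ := h1.mul h1
  rw [Bool.xor_self, Bool.xor_self] at h2
  obtain ⟨k', hk, a, b, c, h3⟩ := h2.inner (by rw [Γ.cj_N_of hN]; exact mul_mem hg hg) (k := k)
    (by rw [← pow_two, ← pow_mul, mul_comm, pow_mul, e, one_pow]; exact one_mem _)
  exact ⟨k', Γ.cj_K_of hN ▸ hk, _, Γ.cj_L_of hN ▸ (Γ.cj l).uL a b c, h3⟩

theorem h2' {t x : G} (ht : t * t = 1) : t * (t * x * t⁻¹) = x * t := by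
  rw [inv_of_sq ht, ← mul_assoc, ← mul_assoc, ht, one_mul]

/-- PROOF. `σ` true: `c₀` spans `C_Y(t) = [Y, t]`, conjugate `t` by `z d`. `s` false: take `a₀`, `b₀ ≠ 0` fixed
(`α a₀² = a₀`), `t u a₀ 0 0 t = u a₀ 0 f`, `z f` is fixed by `t`, so lies in `[Y, t]`: correct to `p = u a₀ 0 c`
centralised by `t`; likewise `q`; `x = p q`. `s` true: `p = u 1 0 0`, `q = t p t`, `t (p q) t = q p`, `[p, q]` is a
non-trivial element of `Y` fixed by `t`; correct `p q` by an element of `Y`. `s` true, `σ` false: `α β = 1`, and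
`x = p (t p t)`, `p = u a 0 0`, gives `x t x⁻¹ = t z (α a²)`. -/
theorem Ty.two {t : G} {s σ : Bool} {α β : F4} (h : Γ.Ty t s σ α β) (ht : t * t = 1) (hs : s = true ∨ σ = true) :
    (σ = true ∧ ∃ c ≠ 0, (∃ x ∈ Γ.U, x * t * x⁻¹ = t * Γ.z c) ∧ ∃ x ∈ Γ.U, x * t = t * x ∧ x * x = Γ.z c) ∨
      (s = true ∧ σ = false ∧ (∀ c, t * Γ.z c = Γ.z c * t) ∧ ∀ c, ∃ x ∈ Γ.U, x * t * x⁻¹ = t * Γ.z c) := by
  have h2 : ∀ x, t * (t * x * t⁻¹) * t⁻¹ = x := fun x => by rw [cj_cj, ht, one_mul, inv_one, mul_one]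
  cases σ
  · obtain rfl : s = true := by simpa using hs
    have hu : ∀ a b c, ∃ d, t * Γ.u a b c * t⁻¹ = Γ.u (β * b) (α * a) d := h.u
    obtain ⟨d, hd⟩ := hu 1 0 0
    obtain ⟨d', hd'⟩ := hu (β * 0) (α * 1) d
    rw [← hd, h2] at hd'
    have hab : α * β = 1 := by rw [(Γ.u_inj hd').1]; ring
    refine .inr ⟨rfl, rfl, fun c => comm_of_cj (by rw [h.z, hab, one_mul]; rfl), fun c => ?_⟩
    have k1 : ∀ α c : F4, α ≠ 0 → ∃ a, a * (α * a) = c := by decide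
    obtain ⟨a, rfl⟩ := k1 α c h.a0
    obtain ⟨f, hf⟩ := hu a 0 0
    rw [mul_zero] at hf
    refine ⟨Γ.u a 0 0 * Γ.u 0 (α * a) f, mul_mem (Γ.u_mem ..) (Γ.u_mem ..), ?_⟩
    have k2 : t * (Γ.u a 0 0 * Γ.u 0 (α * a) f) * t⁻¹ =
        Γ.z (a * (α * a)) * (Γ.u a 0 0 * Γ.u 0 (α * a) f) := by
      rw [cj_mul', hf]
      conv_lhs => rw [← hf, h2, hf]
      rw [Γ.u_mul, Γ.u_mul, Γ.z_mul_u]
      exact Γ.u_congr (add_comm ..) (add_comm ..) (by rw [add_assoc (0 + f), add_self]; ring)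
    rw [mul_inv_eq_iff_eq_mul, mul_assoc t, ← k2, h2' ht]
  · refine .inl ⟨rfl, ?_⟩
    cases s
    · obtain ⟨f, hf⟩ := h.u (α * α) (β * β) 0
      have k1 : ∀ α : F4, α * fr true (α * α) = α * α := by decide
      rw [k1, k1] at hf
      exact two1 Γ ht (mul_ne_zero h.a0 h.b0) h.z (by ring) hf
    · have hu : ∀ a b c, ∃ d, t * Γ.u a b c * t⁻¹ = Γ.u (β * (b * b)) (α * (a * a)) d := h.u
      obtain ⟨d, hd⟩ := hu 1 0 0
      obtain ⟨d', hd'⟩ := hu (β * (0 * 0)) (α * (1 * 1)) d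
      rw [← hd, h2] at hd'
      have k1 : ∀ α β : F4, 1 = β * (α * (1 * 1) * (α * (1 * 1))) → β = α ∧ β * (α * α) = 1 ∧
        1 * α = α * β * (α * β) := by decide
      obtain ⟨rfl, k2, k3⟩ := k1 _ _ (Γ.u_inj hd').1
      obtain ⟨f, hf⟩ := hu 1 β 0
      rw [k2, mul_one, mul_one] at hf
      exact two1 Γ ht (mul_ne_zero h.a0 h.b0) h.z k3 hf

end Lz

end CL.SZ5
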