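import Cfsg.Agent.INV.SZ5.Defs

/-!
# The group `T = R U Y*`, the split case `Zs` and the non-split case `Sz`
-/

set_option autoImplicit false
set_option linter.unusedSectionVars false
set_option linter.unusedVariables false

namespace CL.SZ5

open Subgroup CL.MSS

universe u
variable {G : Type u} [Group G]

namespace Co

variable (Λ : Co G)

theorem RK' {r : G} (hr : r ∈ Λ.R) : r ∈ Λ.K := Λ.RK.le hr
theorem y_zero : Λ.y 0 = 1 := by simpa using Λ.y_mul 0 0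
theorem y_sq (η : F4) : Λ.y η * Λ.y η = 1 := by rw [Λ.y_mul, add_self, Λ.y_zero]
theorem lam_1 : Λ.lam 1 = 0 := by simpa using Λ.lam_mul 1 (one_mem _) 1 (one_mem _)
theorem lam_eq {r r' : G} (hr : r ∈ Λ.R) (hr' : r' ∈ Λ.R) (e : Λ.lam r = Λ.lam r') : r = r' := by
  have := Λ.lam_inj _ (mul_mem hr hr') (by rw [Λ.lam_mul r hr r' hr', e, add_self])
  rw [eq_inv_of_mul_eq_one_left this, inv_of_sq (Λ.Rsq r' hr')]
theorem ru {r : G} (hr : r ∈ Λ.R) (a b c : F4) : r * Λ.u a b c = Λ.u a b c * r := Λ.comm (Λ.RK' hr) (Λ.uL ..)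
theorem y_r {r : G} (hr : r ∈ Λ.R) (η : F4) : Λ.y η * r = r * Λ.z (Λ.lam r * η) * Λ.y η :=
  mul_inv_eq_iff_eq_mul.1 (Λ.yr η r hr)

/-- the elements of `T` -/
def el (r : G) (a b c η : F4) : G := r * Λ.u a b c * Λ.y η

theorem el_mul {r' : G} (r : G) (hr' : r' ∈ Λ.R) (a b c η a' b' c' η' : F4) :
    Λ.el r a b c η * Λ.el r' a' b' c' η' =
      Λ.el (r * r') (a + a') (b + b') (c + c' + a * b' + Λ.lam r' * η) (η + η') :=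
  calc _ = r * Λ.u a b c * (Λ.y η * r') * Λ.u a' b' c' * Λ.y η' := by simp only [el, mul_assoc]
    _ = r * (Λ.u a b c * r') * Λ.z (Λ.lam r' * η) * (Λ.y η * Λ.u a' b' c') * Λ.y η' := by
      rw [Λ.y_r hr']; simp only [mul_assoc]
    _ = r * r' * (Λ.u a b c * (Λ.z (Λ.lam r' * η) * Λ.u a' b' c')) * (Λ.y η * Λ.y η') := by
      rw [← Λ.ru hr', Λ.yu]; simp only [mul_assoc]
    _ = _ := by rw [Λ.z_comm, ← mul_assoc (Λ.u a b c), Λ.u_mul, Λ.u_mul_z, Λ.y_mul, el]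

theorem el_one : Λ.el 1 0 0 0 0 = 1 := by rw [el, Λ.u_zero, Λ.y_zero]; simp
theorem el_r (r : G) : Λ.el r 0 0 0 0 = r := by rw [el, Λ.u_zero, Λ.y_zero]; simp
theorem el_u (a b c : F4) : Λ.el 1 a b c 0 = Λ.u a b c := by rw [el, Λ.y_zero]; simp
theorem el_y (η : F4) : Λ.el 1 0 0 0 η = Λ.y η := by rw [el, Λ.u_zero]; simp

theorem el_sq {r : G} (hr : r ∈ Λ.R) (a b c η : F4) :
    Λ.el r a b c η * Λ.el r a b c η = Λ.z (a * b + Λ.lam r * η) := by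
  rw [Λ.el_mul r hr, Λ.Rsq r hr, add_self, add_self, add_self, add_self, zero_add, el_u]

theorem el_inv {r : G} (hr : r ∈ Λ.R) (a b c η : F4) :
    (Λ.el r a b c η)⁻¹ = Λ.el r a b (c + a * b + Λ.lam r * η) η := by
  rw [inv_eq_iff_mul_eq_one, Λ.el_mul r hr, Λ.Rsq r hr, add_self, add_self, add_self,
    show c + (c + a * b + Λ.lam r * η) + a * b + Λ.lam r * η = 0 by
      linear_combination add_self c + add_self (a * b) + add_self (Λ.lam r * η), Λ.el_one]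

theorem el_inj {r r' : G} (hr : r ∈ Λ.R) (hr' : r' ∈ Λ.R) {a b c η a' b' c' η' : F4}
    (e : Λ.el r a b c η = Λ.el r' a' b' c' η') : r = r' ∧ a = a' ∧ b = b' ∧ c = c' ∧ η = η' := by
  obtain ⟨r0, h0, l0⟩ := Λ.lam_one
  have k : ∀ {r : G}, r ∈ Λ.R → ∀ a b c η, Λ.el r a b c η * r0 = r0 * Λ.z η * Λ.el r a b c η := fun {r} hr a b c η => by
    rw [← Λ.el_r r0, Lz.z, ← Λ.el_u, Λ.el_mul _ h0, Λ.el_mul _ (one_mem _), Λ.el_mul _ hr, l0,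
      comm_of_sq Λ.Rsq hr h0]
    simp [add_comm]
  have e1 := k hr a b c η
  rw [e, k hr', mul_left_inj, mul_right_inj] at e1
  obtain rfl := Λ.z_inj e1
  obtain ⟨h1, h2⟩ := Λ.ext (Λ.RK' hr) (Λ.RK' hr') (Λ.u_mem ..) (Λ.u_mem ..) (mul_right_cancel e)
  obtain ⟨h3, h4, h5⟩ := Λ.u_inj h2
  exact ⟨h1, h3, h4, h5, rfl⟩

/-- `T = R U Y*` -/
def T : Subgroup G where
  carrier := {g | ∃ r ∈ Λ.R, ∃ a b c η, g = Λ.el r a b c η}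
  one_mem' := ⟨1, one_mem _, 0, 0, 0, 0, Λ.el_one.symm⟩
  mul_mem' := by
    rintro _ _ ⟨r, hr, a, b, c, η, rfl⟩ ⟨r', hr', a', b', c', η', rfl⟩
    exact ⟨_, mul_mem hr hr', _, _, _, _, Λ.el_mul r hr' ..⟩
  inv_mem' := by rintro _ ⟨r, hr, a, b, c, η, rfl⟩; exact ⟨r, hr, _, _, _, _, Λ.el_inv hr ..⟩

theorem mem_T {g : G} : g ∈ Λ.T ↔ ∃ r ∈ Λ.R, ∃ a b c η, g = Λ.el r a b c η := Iff.rfl
theorem el_mem {r : G} (hr : r ∈ Λ.R) (a b c η : F4) : Λ.el r a b c η ∈ Λ.T := ⟨r, hr, a, b, c, η, rfl⟩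
theorem r_mem {r : G} (hr : r ∈ Λ.R) : r ∈ Λ.T := Λ.el_r r ▸ Λ.el_mem hr ..
theorem uT (a b c : F4) : Λ.u a b c ∈ Λ.T := Λ.el_u a b c ▸ Λ.el_mem (one_mem _) ..
theorem yT (η : F4) : Λ.y η ∈ Λ.T := Λ.el_y η ▸ Λ.el_mem (one_mem _) ..
theorem U_le_T : Λ.U ≤ Λ.T := by rintro _ ⟨a, b, c, rfl⟩; exact Λ.uT a b c
theorem Y_le_T : Λ.Y ≤ Λ.T := (Λ.Y_le_V.trans Λ.V_le_U).trans Λ.U_le_T

open Classical in
/-- the class `(λ, a, b, η)` of an element of `T` modulo `Y` -/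
noncomputable def cl (x : G) : F4 × F4 × F4 × F4 :=
  if h : ∃ p : F4 × F4 × F4 × F4, ∃ r ∈ Λ.R, Λ.lam r = p.1 ∧ ∃ c, x = Λ.el r p.2.1 p.2.2.1 c p.2.2.2 then h.choose
  else 0

theorem cl_el {r : G} (hr : r ∈ Λ.R) (a b c η : F4) : Λ.cl (Λ.el r a b c η) = (Λ.lam r, a, b, η) := by
  have h : ∃ p : F4 × F4 × F4 × F4, ∃ r' ∈ Λ.R, Λ.lam r' = p.1 ∧ ∃ c',
      Λ.el r a b c η = Λ.el r' p.2.1 p.2.2.1 c' p.2.2.2 := ⟨(Λ.lam r, a, b, η), r, hr, rfl, c, rfl⟩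
  rw [cl, dif_pos h]
  obtain ⟨r', hr', e, c', e'⟩ := h.choose_spec
  obtain ⟨h1, h2, h3, -, h4⟩ := Λ.el_inj hr hr' e'
  exact Prod.ext (by rw [← e, h1]) (Prod.ext h2.symm (Prod.ext h3.symm h4.symm))

theorem cl_r {r : G} (hr : r ∈ Λ.R) : Λ.cl r = (Λ.lam r, 0, 0, 0) := by rw [← Λ.cl_el hr 0 0 0 0, el_r]
theorem cl_u (a b c : F4) : Λ.cl (Λ.u a b c) = (0, a, b, 0) := by rw [← el_u, Λ.cl_el (one_mem _), lam_1]
theorem cl_y (η : F4) : Λ.cl (Λ.y η) = (0, 0, 0, η) := by rw [← el_y, Λ.cl_el (one_mem _), lam_1]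

variable {Λ}

theorem cl_mul {x x' : G} (hx : x ∈ Λ.T) (hx' : x' ∈ Λ.T) : Λ.cl (x * x') = Λ.cl x + Λ.cl x' := by
  obtain ⟨r, hr, a, b, c, η, rfl⟩ := hx
  obtain ⟨r', hr', a', b', c', η', rfl⟩ := hx'
  rw [Λ.el_mul r hr', Λ.cl_el (mul_mem hr hr'), Λ.cl_el hr, Λ.cl_el hr', Λ.lam_mul r hr r' hr']; rfl
theorem cl_inv {x : G} (hx : x ∈ Λ.T) : Λ.cl x⁻¹ = Λ.cl x := by
  obtain ⟨r, hr, a, b, c, η, rfl⟩ := hx
  rw [Λ.el_inv hr, Λ.cl_el hr, Λ.cl_el hr]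
theorem eq_of_cl {x x' : G} (hx : x ∈ Λ.T) (hx' : x' ∈ Λ.T) (e : Λ.cl x = Λ.cl x') : ∃ c, x' = x * Λ.z c := by
  obtain ⟨r, hr, a, b, c, η, rfl⟩ := hx
  obtain ⟨r', hr', a', b', c', η', rfl⟩ := hx'
  rw [Λ.cl_el hr, Λ.cl_el hr', Prod.ext_iff, Prod.ext_iff, Prod.ext_iff] at e
  obtain ⟨e1, rfl, rfl, rfl⟩ := e
  obtain rfl := Λ.lam_eq hr hr' e1
  refine ⟨c + c', ?_⟩
  rw [Lz.z, ← Λ.el_u, Λ.el_mul r (one_mem _), Λ.lam_1]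
  simp [← add_assoc, add_self]
theorem cl_eq_zero {x : G} (hx : x ∈ Λ.T) : Λ.cl x = 0 ↔ x ∈ Λ.Y :=
  ⟨fun e => by
    obtain ⟨c, rfl⟩ := eq_of_cl (Λ.uT 0 0 0) hx (by rw [e, cl_u]; rfl)
    exact mul_mem (Λ.z_mem 0) (Λ.z_mem c), by rintro ⟨c, rfl⟩; exact Λ.cl_u 0 0 c⟩
theorem sq_T {x : G} (hx : x ∈ Λ.T) :
    x * x = Λ.z ((Λ.cl x).2.1 * (Λ.cl x).2.2.1 + (Λ.cl x).1 * (Λ.cl x).2.2.2) := by
  obtain ⟨r, hr, a, b, c, η, rfl⟩ := hx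
  rw [Λ.el_sq hr, Λ.cl_el hr]
theorem z_T {x : G} (hx : x ∈ Λ.T) (c : F4) : x * Λ.z c = Λ.z c * x := by
  obtain ⟨r, hr, a, b, c', η, rfl⟩ := hx
  rw [Lz.z, ← Λ.el_u, Λ.el_mul r (one_mem _), Λ.el_mul 1 hr, Λ.lam_1]
  simp [add_comm]
theorem comm_T {x x' : G} (hx : x ∈ Λ.T) (hx' : x' ∈ Λ.T) : x * x' * x⁻¹ = x' * Λ.z
    ((Λ.cl x).2.1 * (Λ.cl x').2.2.1 + (Λ.cl x).2.2.1 * (Λ.cl x').2.1 + (Λ.cl x).1 * (Λ.cl x').2.2.2 +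
      (Λ.cl x).2.2.2 * (Λ.cl x').1) := by
  obtain ⟨r, hr, a, b, c, η, rfl⟩ := hx
  obtain ⟨r', hr', a', b', c', η', rfl⟩ := hx'
  rw [mul_inv_eq_iff_eq_mul, Λ.cl_el hr, Λ.cl_el hr', Lz.z, ← Λ.el_u, Λ.el_mul r' (one_mem _), Λ.el_mul _ hr,
    Λ.el_mul r hr', Λ.lam_1, mul_one, comm_of_sq Λ.Rsq hr hr']
  congr 1
  · ring
  · ring
  · linear_combination -add_self (b * a') - add_self (Λ.lam r * η')
  · ring
theorem pT : IsPGroup 2 Λ.T := fun x => ⟨2, Subtype.ext (by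
  rw [coe_pow, show (x : G) ^ 2 ^ 2 = x * x * (x * x) by norm_num [pow_succ, mul_assoc], sq_T x.2, Λ.z_sq]; rfl)⟩
theorem T_O {x o : G} (hx : x ∈ Λ.T) (ho : o ∈ Λ.O) : x * o = o * x := by
  obtain ⟨r, hr, a, b, c, η, rfl⟩ := hx
  rw [el, mul_assoc, Λ.yO η o ho, ← mul_assoc, mul_assoc r, ← Λ.comm (Λ.OK ho) (Λ.uL ..), ← mul_assoc,
    ← Λ.OR o ho r hr]
  simp only [mul_assoc]

variable (Λ)

/-- exchange the two sides -/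
def sw : Co G :=
  { Λ.toEl.sw with
    lam := Λ.lam, y := Λ.y, k1 := Λ.k2, k2 := Λ.k1, P1 := Λ.P2, P2 := Λ.P1, lam_mul := Λ.lam_mul
    lam_inj := Λ.lam_inj, lam_one := Λ.lam_one, y_mul := Λ.y_mul, yu := fun _ _ _ _ => Λ.yu ..
    hy := Λ.hy, yO := Λ.yO, s1 := Λ.s2
    yr := fun η r hr => (Λ.yr η r hr).trans (congrArg _ (Λ.toLz.sw_z _).symm)
    s2 := by
      have e : Λ.toEl.sw.sw.u = Λ.u := by funext a b c; exact Λ.toLz.sw_sw_u a b c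
      have e' : Λ.toEl.sw.sw.w Λ.y = Λ.w Λ.y := rfl
      exact ⟨Λ.s1.pg, by rw [e, e']; exact Λ.s1.mem, by rw [e, e']; exact Λ.s1.wy, by rw [e, e']; exact Λ.s1.wu,
        by rw [e]; exact Λ.s1.max⟩ }

theorem sw_el (r : G) (a b c η : F4) : Λ.sw.el r a b c η = Λ.el r b a (c + a * b) η := rfl
theorem sw_T : Λ.sw.T = Λ.T := Subgroup.ext fun _ =>
  ⟨fun ⟨r, hr, _, _, _, _, e⟩ => ⟨r, hr, _, _, _, _, e⟩, fun ⟨r, hr, a, b, c, η, e⟩ =>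
    ⟨r, hr, b, a, c + a * b, η, e.trans (congrArg (r * · * Λ.y η) (Λ.toLz.u_sw a b c))⟩⟩
theorem sw_cl {x : G} (hx : x ∈ Λ.T) :
    Λ.sw.cl x = ((Λ.cl x).1, (Λ.cl x).2.2.1, (Λ.cl x).2.1, (Λ.cl x).2.2.2) := by
  obtain ⟨r, hr, a, b, c, η, rfl⟩ := hx
  rw [Λ.cl_el hr, show Λ.el r a b c η = Λ.sw.el r b a (c + a * b) η from
    congrArg (r * · * Λ.y η) (Λ.toLz.u_sw a b c), Λ.sw.cl_el hr]; rfl

/-- the elements `w₁ a` -/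
abbrev w1 (a : F4) : G := Λ.w Λ.y a
/-- the elements `w₂ b` -/
abbrev w2 (b : F4) : G := Λ.sw.w1 b

end Co

/-! ### The non-split case -/

/-- vectors of length five -/
abbrev V5 : Type := Fin 5 → F4
/-- the quadratic form -/
def Qf (β : V5) : F4 := β 0 * (β 1 + β 2 + β 3 + β 4) + β 1 * (β 2 + β 3 + β 4) + β 2 * (β 3 + β 4) + β 3 * β 4
/-- the bilinear form -/
def Bf (β γ : V5) : F4 := ∑ i, β i * γ i
/-- the vectors whose preimages are conjugate into `L` -/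
def ff (i : Fin 5) (μ : F4) : V5 := fun j => if j = i then 0 else μ
/-- change of coordinates -/
def bv (p : F4 × F4 × F4 × F4) : V5 :=
  ![p.2.2.1, p.2.1, p.2.1 + p.2.2.1 + p.1 + p.2.2.2, p.2.1 + p.2.2.1 + p.1 * F4.w + p.2.2.2 * F4.v,
    p.2.1 + p.2.2.1 + p.1 * F4.v + p.2.2.2 * F4.w]

/-- `k₁ = k₂ = 1` -/
structure Sz (G : Type u) [Group G] extends Co G where
  r : F4 → G
  rR : ∀ m, r m ∈ R
  lam_r : ∀ m, lam (r m) = m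
  e1 : k1 = 1
  e2 : k2 = 1

namespace Sz

variable (Λ : Sz G)

/-- the coordinates of an element of `T` modulo `Y` -/
noncomputable def β (x : G) : V5 := bv (Λ.cl x)

/-- `g` permutes the coordinates by `π` and applies the field automorphism `σ` -/
structure Act (g : G) (π : Equiv.Perm (Fin 5)) (σ : Bool) : Prop where
  norm : g ∈ normalizer (Λ.T : Set G)
  act : ∀ x ∈ Λ.T, ∀ i, Λ.β (g * x * g⁻¹) (π i) = fr σ (Λ.β x i)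
  z : ∀ c, g * Λ.z c * g⁻¹ = Λ.z (fr σ c)

theorem bv_add (p q : F4 × F4 × F4 × F4) : bv (p + q) = bv p + bv q := by
  funext i; fin_cases i <;> simp [bv] <;> ring
theorem β_mul {x x' : G} (hx : x ∈ Λ.T) (hx' : x' ∈ Λ.T) : Λ.β (x * x') = Λ.β x + Λ.β x' := by
  rw [β, Co.cl_mul hx hx', bv_add]; rfl
theorem β_inv {x : G} (hx : x ∈ Λ.T) : Λ.β x⁻¹ = Λ.β x := by rw [β, Co.cl_inv hx]; rfl
theorem β_one : Λ.β 1 = 0 := by simpa using Λ.β_mul (one_mem _) (one_mem _)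

/-- the elements of `T` with coordinates in the prime field -/
def Qy : Subgroup G where
  carrier := {x | x ∈ Λ.T ∧ ∀ i, Λ.β x i * Λ.β x i = Λ.β x i}
  one_mem' := ⟨one_mem _, fun i => by simp [β_one]⟩
  mul_mem' := fun {a b} ha hb => ⟨mul_mem ha.1 hb.1, fun i => by
    rw [Λ.β_mul ha.1 hb.1, Pi.add_apply]
    linear_combination ha.2 i + hb.2 i + add_self (Λ.β a i * Λ.β b i)⟩
  inv_mem' := fun {a} ha => ⟨inv_mem ha.1, by rw [Λ.β_inv ha.1]; exact ha.2⟩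

theorem mem_Qy {x : G} : x ∈ Λ.Qy ↔ x ∈ Λ.T ∧ ∀ i, Λ.β x i * Λ.β x i = Λ.β x i := Iff.rfl

end Sz

/-- an element `g` centralising `z 1` and `O` and moving `Y` inside the extraspecial group -/
structure Sq (G : Type u) [Group G] extends Sz G where
  g : G
  gz : g * u 0 0 1 * g⁻¹ = u 0 0 1
  gy : g * u 0 0 F4.w * g⁻¹ = u 1 0 F4.w
  gv : g * u 1 0 F4.w * g⁻¹ = u 0 0 F4.w ∨ g * u 1 0 F4.w * g⁻¹ = u 0 0 F4.v
  gO : ∀ o ∈ O, g * o = o * g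
  gQ : ∀ x ∈ toSz.Qy, toSz.β x 0 = 0 → g * x * g⁻¹ ∈ toSz.Qy ∧ toSz.β (g * x * g⁻¹) 0 = 0
  act : toSz.Act (g * u 0 1 0 * g⁻¹) 1 true

namespace Sq

variable (Λ : Sq G)

/-- the involution inducing the Frobenius map on `T` -/
def f : G := Λ.g * Λ.u 0 1 0 * Λ.g⁻¹
/-- the extraspecial group of order `2⁷` -/
def Q : Subgroup G := Λ.Qy ⊔ zpowers Λ.f
/-- `C(z 1)` -/
abbrev H : Subgroup G := centralizer {Λ.z 1}
/-- non-central involutions of `Q` -/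
def NI (x : G) : Prop := x ∈ Λ.Q ∧ x * x = 1 ∧ x ≠ 1 ∧ x ≠ Λ.z 1

end Sq

end CL.SZ5
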