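import Cfsg.Agent.INV.SZ5.NoA

/-! An involution of a conjugate of `K` induces an inner automorphism on `L`. -/

set_option autoImplicit false
set_option linter.unusedSectionVars false
set_option linter.unusedVariables false

namespace CL.SZ5

open Subgroup CL.MSS

universe u
variable {G : Type u} [Group G] [Finite G]

theorem St.not_Ap (Γ : St G) {x : G} (h : Γ.Kp x) : ¬ Γ.Ap x := fun h' => by
  obtain ⟨h1, h2, g, e⟩ := h
  obtain ⟨k, rfl⟩ := isConj_iff.1 h'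
  exact cj_ne g h2 (Γ.noA e (sq_cj g h1) (g := (g * k)⁻¹) (by convert Γ.uL 0 0 1 using 1; group))

namespace In

open Bas

omit [Finite G] in
theorem ap_z (Γ : Lz G) {c : F4} (h : c ≠ 0) : Γ.Ap (Γ.z c) :=
  let ⟨m, _, _, e⟩ := conj_z Γ h; isConj_iff.2 ⟨m, e⟩

omit [Finite G] in
theorem ex_inv {X : Subgroup G} (hX : IsPGroup 2 X) (h : X ≠ ⊥) : ∃ r ∈ X, r * r = 1 ∧ r ≠ 1 := by
  by_contra hc
  push Not at hc
  refine h ((eq_bot_iff_forall _).2 fun x hx => ?_)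
  obtain ⟨n, e⟩ := pow_two_of_mem hX hx
  exact NoA.two_elt (fun s hs _ => hc s hs) hx hx e

theorem ex_cen (Γ : St G) {s : G} (hs : s ∈ Γ.N) {n : ℕ} (e : s ^ 2 ^ n = 1) :
    ∃ r ∈ Γ.K, r * r = 1 ∧ r ≠ 1 ∧ r * s = s * r := by
  obtain ⟨P, hP, hsP⟩ := exists_sylIn_ge (pg_zpowers e) (le_sup_right : zpowers s ≤ Γ.K ⊔ zpowers s)
  have hn : Γ.K ⊔ zpowers s ≤ normalizer (Γ.K : Set G) := sup_le le_normalizer (zpowers_le.2 (Γ.N_le_NK hs))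
  have h1 := hP.inf_normal_of_le hn le_sup_left
  obtain ⟨-, -, t, ht, t2, t1, -⟩ := Γ.ex
  have h2 := h1.ne_bot (dvd_card_of_isPGroup_le (pg_zpowers (g := t) (n := 1) (by simpa [pow_two] using t2))
    (mt zpowers_eq_bot.1 t1) (zpowers_le.2 ht))
  obtain ⟨r, hr, r2, r1⟩ := ex_inv (h1.pgroup.to_le inf_le_left) (inf_centralizer_ne_bot hP.pgroup h1.pgroup
    (le_normalizer_inf le_normalizer (hP.le.trans hn)) h2)
  exact ⟨r, hr.1.2, r2, r1, (hr.2 s (hsP (mem_zpowers s))).symm⟩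

/-- the negation of the claim -/
def H (Γ : St G) : Prop := ∀ k ∈ Γ.K, k * k = 1 → k ≠ 1 → ∀ g, g ∉ Γ.N → k * Γ.z 1 ∉ (Γ.toLz.cj g).K

omit [Finite G] in
theorem H.cj {Γ : St G} (h : H Γ) (x : G) : H (Γ.cj x) := fun k hk k2 k1 g hg e =>
  h (x⁻¹ * k * x) (Γ.toLz.mem_cj_K.1 hk) (by simpa using sq_cj x⁻¹ k2) (by simpa using cj_ne x⁻¹ k1) (x⁻¹ * g * x)
    (fun h => hg (Γ.toLz.mem_cj_N.2 h)) (Γ.toLz.mem_cj_K.2 (by
      convert Γ.toLz.mem_cj_K.1 ((Γ.toLz.cj x).mem_cj_K.1 e) using 1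
      change _ = x⁻¹ * (g⁻¹ * (k * (x * Γ.z 1 * x⁻¹)) * g) * x
      group))

theorem H.mem {Γ : St G} (h : H Γ) {x : G} (h1 : Γ.Kp x) (h2 : Γ.Inn x) : x ∈ Γ.K := by
  obtain ⟨k, hk, l, hl, e⟩ := h2
  obtain ⟨k, hk, l, hl, e', k2, l2⟩ := Γ.inv_split hk hl (e ▸ h1.1)
  obtain rfl := e.trans e'
  by_cases l1 : l = 1
  · rwa [l1, mul_one]
  obtain ⟨m, hm, rfl⟩ := Γ.inv_conj hl l2 l1
  have h3 := h1.cj m⁻¹
  rw [← Γ.conj_ka hk hm, show m⁻¹ * (m * (k * Γ.z 1) * m⁻¹) * m⁻¹⁻¹ = k * Γ.z 1 by group] at h3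
  obtain ⟨g, hg⟩ := h3.2.2
  refine absurd (Γ.toLz.mem_cj_K.2 (by simpa using hg)) (h k hk k2 (fun e => ?_) g⁻¹ fun hN => ?_)
  · rw [e, one_mul] at h3
    exact Γ.not_Ap h3 (IsConj.refl _)
  · have := Γ.N_conj_K hN hg
    rw [show g⁻¹ * (g * (k * Γ.z 1) * g⁻¹) * g⁻¹⁻¹ = k * Γ.z 1 by group, mul_mem_cancel_left hk] at this
    exact one_ne_zero (Γ.z_eq_one.1 (Γ.UK (Γ.u_mem ..) this))

theorem second {A B : St G} (hA : H A) (hB : H B) (hK : ∀ x, A.Kp x ↔ B.Kp x) {s : G} (sB : s ∈ B.K)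
    (s2 : s * s = 1) (s1 : s ≠ 1) (sA : s ∉ A.K) (sN : s ∈ A.N) (sU : s ∈ normalizer (A.U : Set G)) :
    (∀ c, s * A.z c = A.z c * s) ∧ ∀ c, B.Inn (A.z c) → c = 0 := by
  have ks : B.Kp s := ⟨s2, s1, 1, by simpa using sB⟩
  have key : ∀ c x, x * s * x⁻¹ = s * A.z c → B.Inn (A.z c) → c = 0 := by
    rintro c x e ⟨k, hk, l, hl, e'⟩
    by_contra hc
    have h1 := hB.mem (e ▸ ks.cj x) ⟨s * k, mul_mem sB hk, l, hl, by rw [e', mul_assoc]⟩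
    rw [mul_mem_cancel_left sB] at h1
    exact A.not_Ap ((hK _).2 ⟨A.z_sq c, mt A.z_eq_one.1 hc, 1, by simpa using h1⟩) (ap_z _ hc)
  obtain ⟨σ, τ, α, β, T⟩ := A.exists_ty sU
  rcases T.two s2 (by
    by_contra hc
    obtain ⟨rfl, rfl⟩ : σ = false ∧ τ = false := by simpa using hc
    obtain ⟨k, hk, a, b, c, e⟩ := T.inner sN (k := 1) (by rw [pow_succ, pow_zero, one_mul, pow_two, s2]; exact one_mem _)
    exact sA (hA.mem ((hK _).2 ks) ⟨k, hk, _, A.uL .., e⟩)) with ⟨-, c, hc, ⟨x, -, e⟩, y, -, e1, e2⟩ | ⟨-, -, h1, h2⟩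
  · exact absurd (key c x e (e2 ▸ Lz.ev (B.cen_le_N sB s2 s1 e1) (k := 2)
      (by rw [show 2 ^ 2 = 2 * 2 from rfl, pow_mul, pow_two y, e2, pow_two, A.z_sq]))) hc
  · exact ⟨h1, fun c => let ⟨x, _, e⟩ := h2 c; key c x e⟩

omit [Finite G] in
theorem Y_le {A : Lz G} {T C : Subgroup G} (hT : SylIn 2 T C) (hU : T ≤ normalizer (A.U : Set G))
    (hC : A.Y ≤ C) : A.Y ≤ T :=
  hT.le_of_normalized (A.pU.to_le (A.Y_le_V.trans A.V_le_U)) hC fun t ht => norm_Y_of _ fun c =>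
    let ⟨d, e⟩ := norm_Y A (hU ht) c; e ▸ A.z_mem d

end In

open In Bas

/-- PROOF. Suppose not. Then (H): an involution `x = k l ∈ K L` with `Kp x` lies in `K` (`k² = l² = 1`; if `l ≠ 1`
conjugate `l` to `z 1` by `inv_conj`; `k ≠ 1` by `noA`; `k z ∈ K^g` with `g ∉ N` since `k z ∉ K`); (H) holds for
every conjugate `Γ.cj g`. From `ex`: an involution `s ∈ K' ⊓ N`, `Γ' = Γ.cj g`, `g ∉ N`. `s` normalises `K`, so it
centralises an involution `r ∈ K` (`r₀` or `r₀ * s r₀ s`-type argument: `s` normalises a Sylow 2-subgroup of `K`,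
or use the dihedral group `⟨r₀, s r₀ s⟩ ≤ K`; simplest: `s` permutes the odd number of involutions of `K`);
`r ∈ N'`. `T₀` Sylow in `C(r) ⊓ C(s) ≤ N ⊓ N'`, `r, s ∈ T₀`. Replace `Γ`, `Γ'` by frames normalised by `T₀`.
`s ∉ K L` by (H), so `Ty.two` applies to `s` (`Ty.inner`). KEY: if `s z c ~ s`, `c ≠ 0`, and `z c ∈ K' L'` then
`s z c ∈ K'` by (H) for `Γ'`, so `z c ∈ K'`, against `noA`. First alternative: `x ∈ C(s) ≤ N'`, `z c = x²` is in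
`K' L'` (`ev`): contradiction. The same for `r` and `Γ'`. So both are of the second kind: `Y ≤ C(r) ⊓ C(s)` is
normalised by `T₀`, so `Y ≤ T₀`, `Y' ≤ T₀`, `Y ⊓ K' L' = 1`, `Y' ⊓ K L = 1`, `[Y, Y'] ≤ Y ⊓ Y' = 1`. Some
`1 ≠ y' ∈ Y'` has type `s = false` on `U` (`Ty.mul`: two swapping elements have a non-swapping product); it
centralises `Y`, so `σ = false`, and `Ty.inner` gives `y' ∈ K L`. -/
theorem St.exists_in (Γ : St G) :
    ∃ k ∈ Γ.K, k * k = 1 ∧ k ≠ 1 ∧ ∃ g, g ∉ Γ.N ∧ k * Γ.z 1 ∈ (Γ.toLz.cj g).K := by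
  by_contra hc
  have hH : H Γ := fun k hk k2 k1 g hg e => hc ⟨k, hk, k2, k1, g, hg, e⟩
  obtain ⟨g, hg, t, ht, t2, t1, sN⟩ := Γ.ex
  have s2 := sq_cj g t2
  have s1 := cj_ne g t1
  have sK : g * t * g⁻¹ ∈ (Γ.cj g).K := Γ.toLz.mem_cj_K.2 (by simpa [mul_assoc] using ht)
  generalize g * t * g⁻¹ = s at *
  obtain ⟨r, rK, r2, r1, rs⟩ := ex_cen Γ sN (n := 1) (by simpa [pow_two] using s2)
  obtain ⟨T, hT⟩ := exists_sylIn 2 (centralizer {r} ⊓ centralizer {s} : Subgroup G)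
  have mem : ∀ x, x * x = 1 → x * r = r * x → x * s = s * x → (∀ y ∈ T, y * x = x * y) → x ∈ T :=
    fun x x2 h1 h2 h3 => hT.le_of_normalizes (pg_zpowers (g := x) (n := 1) (by simpa [pow_two] using x2))
      (zpowers_le.2 ⟨mem_centralizer_singleton_iff.2 h1, mem_centralizer_singleton_iff.2 h2⟩)
      (zpowers_le.2 (centralizer_le_normalizer _ h3)) (mem_zpowers x)
  have rT := mem r r2 rfl rs fun y hy => mem_centralizer_singleton_iff.1 (hT.le hy).1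
  have sT := mem s s2 rs.symm rfl fun y hy => mem_centralizer_singleton_iff.1 (hT.le hy).2
  have TN : T ≤ Γ.N := fun y hy => Γ.cen_le_N rK r2 r1 (mem_centralizer_singleton_iff.1 (hT.le hy).1)
  have TN' : T ≤ (Γ.cj g).N := fun y hy => (Γ.cj g).cen_le_N sK s2 s1 (mem_centralizer_singleton_iff.1 (hT.le hy).2)
  obtain ⟨l, hl, hU⟩ := Γ.frame hT.pgroup TN
  obtain ⟨l', hl', hU'⟩ := (Γ.cj g).frame hT.pgroup TN'
  have KA : (Γ.cj l).K = Γ.K := Γ.cj_K_of (Γ.L_le_N hl)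
  have NA : (Γ.cj l).N = Γ.N := Γ.cj_N_of (Γ.L_le_N hl)
  have KB : ((Γ.cj g).cj l').K = (Γ.cj g).K := (Γ.cj g).cj_K_of ((Γ.cj g).L_le_N hl')
  have NB : ((Γ.cj g).cj l').N = (Γ.cj g).N := (Γ.cj g).cj_N_of ((Γ.cj g).L_le_N hl')
  have hK : ∀ x, (Γ.cj l).Kp x ↔ ((Γ.cj g).cj l').Kp x := fun x =>
    (Γ.toLz.cj_Kp l).trans (((Γ.cj g).toLz.cj_Kp l').trans (Γ.toLz.cj_Kp g)).symm
  obtain ⟨a1, a2⟩ := second (hH.cj l) ((hH.cj g).cj l') hK (KB.ge sK) s2 s1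
    (fun h => hg (Γ.mem_N_of (KA.le h) sK s2 s1)) (NA.ge sN) (hU sT)
  obtain ⟨b1, b2⟩ := second ((hH.cj g).cj l') (hH.cj l) (fun x => (hK x).symm) (KA.ge rK) r2 r1
    (fun h => hg (Γ.mem_N_of rK (KB.le h) r2 r1)) (NB.ge (TN' rT)) (hU' rT)
  have rA := KA.ge rK
  have sB := KB.ge sK
  have TA := TN.trans NA.ge
  change T ≤ normalizer ((Γ.cj l).U : Set G) at hU
  change T ≤ normalizer (((Γ.cj g).cj l').U : Set G) at hU'
  generalize Γ.cj l = A at *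
  generalize (Γ.cj g).cj l' = B at *
  have YA := Y_le hT hU (by
    rintro _ ⟨c, rfl⟩
    exact ⟨mem_centralizer_singleton_iff.2 (A.comm rA (A.uL ..)).symm, mem_centralizer_singleton_iff.2 (a1 c).symm⟩)
  have YB := Y_le hT hU' (by
    rintro _ ⟨c, rfl⟩
    exact ⟨mem_centralizer_singleton_iff.2 (b1 c).symm, mem_centralizer_singleton_iff.2 (B.comm sB (B.uL ..)).symm⟩)
  have cm : ∀ c d, B.z d * A.z c * (B.z d)⁻¹ = A.z c := fun c d => by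
    obtain ⟨c', e⟩ := norm_Y A.toLz (hU (YB (B.z_mem d))) c
    obtain ⟨d', e'⟩ := norm_Y B.toLz (hU' (YA (A.z_mem c))) d
    have h1 : A.z (c' + c) = B.z (d + d') := by
      rw [← A.z_mul, ← B.z_mul, ← e, ← e', A.z_inv, B.z_inv]; group
    have h2 := a2 _ ⟨1, one_mem _, _, B.uL .., by rw [h1, one_mul]⟩
    rw [e, show c' = c by linear_combination h2 - add_self c]
  have fin : ∀ d σ α β, A.Ty (B.z d) false σ α β → d = 0 := fun d σ α β h => by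
    have z1 := A.z_inj ((cm 1 d).symm.trans (h.z 1))
    have z2 := A.z_inj ((cm F4.w d).symm.trans (h.z F4.w))
    rw [fr_one, mul_one] at z1
    rw [← z1, one_mul] at z2
    obtain rfl : σ = false := by revert z2; cases σ <;> decide
    obtain ⟨k, hk, a, b, c, e⟩ := h.inner (TA (YB (B.z_mem d))) (k := 1)
      (by rw [pow_succ, pow_zero, one_mul, pow_two, B.z_sq]; exact one_mem _)
    exact b2 d ⟨k, hk, _, A.uL .., e⟩
  obtain ⟨s₁, σ₁, α₁, β₁, T1⟩ := A.exists_ty (hU (YB (B.z_mem 1)))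
  obtain ⟨s₂, σ₂, α₂, β₂, T2⟩ := A.exists_ty (hU (YB (B.z_mem F4.w)))
  obtain ⟨α₃, β₃, T3⟩ := T1.mul T2
  rw [B.z_mul] at T3
  cases s₁
  · exact absurd (fin _ _ _ _ T1) (by decide)
  cases s₂
  · exact absurd (fin _ _ _ _ T2) (by decide)
  · exact absurd (fin _ _ _ _ T3) (by decide)

end CL.SZ5
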