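import Cfsg.Agent.INV.SZ5.Bas

/-! Elementary abelian 2-subgroups of `Aut L₃(4)`. -/

set_option autoImplicit false
set_option linter.unusedSectionVars false
set_option linter.unusedVariables false

namespace CL.SZ5

open Subgroup CL.MSS

universe u
variable {G : Type u} [Group G] [Finite G]

namespace RK

theorem card_le_mul {D A : Subgroup G} {ι : Type} [Finite ι] (f : G → ι)
    (h : ∀ d ∈ D, ∀ d' ∈ D, f d = f d' → d⁻¹ * d' ∈ A) : Nat.card D ≤ Nat.card ι * Nat.card A := by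
  have ex : ∀ i, ∃ x, (∃ d ∈ D, f d = i) → x ∈ D ∧ f x = i := fun i => by
    by_cases hi : ∃ d ∈ D, f d = i
    · exact ⟨hi.choose, fun _ => hi.choose_spec⟩
    · exact ⟨1, fun h => absurd h hi⟩
  choose ρ hρ using ex
  rw [← Nat.card_prod]
  refine Nat.card_le_card_of_injective (fun d : D => ((f d, ⟨(ρ (f d))⁻¹ * d, h _ (hρ _ ⟨d, d.2, rfl⟩).1 _ d.2
    (hρ _ ⟨d, d.2, rfl⟩).2⟩) : ι × A)) fun d d' e => ?_
  have e1 : f d = f d' := congrArg Prod.fst e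
  have e2 : (ρ (f d))⁻¹ * d = (ρ (f d'))⁻¹ * d' := congrArg (fun p : ι × A => p.2.1) e
  rw [e1] at e2
  exact Subtype.ext (mul_left_cancel e2)

theorem card_le_two {D A : Subgroup G} (h : ∀ d ∈ D, ∀ d' ∈ D, d ∉ A → d' ∉ A → d⁻¹ * d' ∈ A) :
    Nat.card D ≤ 2 * Nat.card A := by
  classical
  have := card_le_mul (D := D) (A := A) (fun d => decide (d ∈ A)) fun d hd d' hd' e => by
    by_cases h1 : d ∈ A
    · exact mul_mem (inv_mem h1) (by simpa [h1] using e)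
    · exact h d hd d' hd' h1 (by simpa [h1] using e)
  simpa using this

theorem card_le_half {E V : Subgroup G} (h : E ≤ V) (hne : E ≠ V) : 2 * Nat.card E ≤ Nat.card V := by
  obtain ⟨m, hm⟩ := card_dvd_of_le h
  have h1 : m ≠ 1 := fun e => hne (eq_of_le_of_card_ge h (by rw [hm, e, mul_one]))
  have h0 : m ≠ 0 := fun e => (Nat.card_pos (α := V)).ne' (by rw [hm, e, mul_zero])
  rw [hm, mul_comm]
  exact Nat.mul_le_mul_left _ (by omega)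

variable (Γ : Lz G)

omit [Finite G] in
theorem card_cov {D X : Subgroup G} (h : Γ.Cov D X) (hX : X ≤ Γ.U) :
    Nat.card D = Nat.card X * Nat.card ↥(D ⊓ Γ.K) := by
  choose d hd k hk e using fun x : X => h.2 x x.2
  rw [← Nat.card_prod]
  refine (Nat.card_congr (Equiv.ofBijective (fun p : X × ↥(D ⊓ Γ.K) =>
    (⟨p.2 * d p.1, mul_mem p.2.2.1 (hd _)⟩ : D)) ⟨fun p q h => ?_, fun y => ?_⟩)).symm
  · have h1 : p.2 * d p.1 = q.2 * d q.1 := congrArg Subtype.val h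
    have h2 := h1
    rw [e, e, ← mul_assoc, ← mul_assoc] at h2
    have h3 : p.1 = q.1 := Subtype.ext (Γ.ext (Γ.K.mul_mem p.2.2.2 (hk _)) (Γ.K.mul_mem q.2.2.2 (hk _))
      (hX p.1.2) (hX q.1.2) h2).2
    rw [h3] at h1
    exact Prod.ext h3 (Subtype.ext (mul_right_cancel h1))
  · obtain ⟨k', hk', x, hx, e'⟩ := h.1 y y.2
    refine ⟨(⟨x, hx⟩, ⟨y * (d ⟨x, hx⟩)⁻¹, D.mul_mem y.2 (D.inv_mem (hd _)), ?_⟩), Subtype.ext (by simp)⟩
    rw [e, e', mul_inv_rev, mul_assoc, mul_inv_cancel_left]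
    exact Γ.K.mul_mem hk' (inv_mem (hk _))

omit [Finite G] in
theorem cen_of {g k x : G} (hg : g ∈ Γ.N) (hk : k ∈ Γ.K) (hx : x ∈ Γ.U)
    (e : g * (k * x) * g⁻¹ * (k * x)⁻¹ ∈ Γ.K) : g * x = x * g := by
  rw [cj_mul', mul_inv_rev, mul_assoc, mul_mem_cancel_left (Γ.N_conj_K hg hk), ← mul_assoc,
    mul_mem_cancel_right (inv_mem hk)] at e
  obtain ⟨m, e1⟩ := pow_two_of_mem Γ.pU hx
  refine comm_of_cj (mul_inv_eq_one.1 (Γ.LK2 (mul_mem (Γ.N_conj_L hg (Γ.U_le_L hx)) (inv_mem (Γ.U_le_L hx))) e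
    (m := m) ?_))
  have := Commute.mul_pow (Γ.comm e (Γ.U_le_L hx)) (2 ^ m)
  rwa [inv_mul_cancel_right, conj_pow, e1, mul_one, mul_one, mul_inv_cancel, eq_comm] at this

omit [Finite G] in
theorem cm_mem {D : Subgroup G} (hN : D ≤ Γ.N) (h2 : ∀ d ∈ D, d * d ∈ Γ.K) {d d' : G} (hd : d ∈ D)
    (hd' : d' ∈ D) : d * d' * d⁻¹ * d'⁻¹ ∈ Γ.K := by
  have := mul_mem (mul_mem (h2 _ (mul_mem hd hd')) (Γ.N_conj_K (hN (inv_mem hd')) (h2 _ (inv_mem hd))))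
    (h2 _ (inv_mem hd'))
  convert this using 1
  group

/-- the image in `U` of `D ⊓ K U` -/
def E (D : Subgroup G) : Subgroup G where
  carrier := {x | x ∈ Γ.U ∧ ∃ k ∈ Γ.K, k * x ∈ D}
  one_mem' := ⟨one_mem _, 1, one_mem _, by simp⟩
  mul_mem' := by
    rintro x y ⟨hx, k, hk, e⟩ ⟨hy, k', hk', e'⟩
    exact ⟨mul_mem hx hy, k * k', mul_mem hk hk', Γ.mul_mul k y hk' (Γ.U_le_L hx) ▸ mul_mem e e'⟩
  inv_mem' := by
    rintro x ⟨hx, k, hk, e⟩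
    exact ⟨inv_mem hx, k⁻¹, inv_mem hk, by rw [← mul_inv_rev, ← Γ.comm hk (Γ.U_le_L hx)]; exact inv_mem e⟩

omit [Finite G] in
theorem cov_E (D : Subgroup G) : Γ.Cov (D ⊓ (Γ.K ⊔ Γ.U)) (E Γ D) := by
  refine ⟨fun d hd => ?_, fun x ⟨hx, k, hk, e⟩ => ⟨_, ⟨e, mul_mem (mem_sup_left hk) (mem_sup_right hx)⟩, k, hk, rfl⟩⟩
  obtain ⟨k, hk, x, hx, rfl⟩ := (Γ.mem_sup le_rfl Γ.U_le_L).1 hd.2
  exact ⟨k, hk, x, ⟨hx, k, hk, hd.1⟩, rfl⟩

omit [Finite G] in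
theorem side {X : Subgroup G} (hX : X ≤ Γ.U) (h : ∀ a b c, Γ.u a b c ∈ X → a * b = 0) : X ≤ Γ.V ∨ X ≤ Γ.sw.V := by
  by_contra hc
  rw [not_or, SetLike.not_le_iff_exists, SetLike.not_le_iff_exists] at hc
  obtain ⟨⟨x, hx, h1⟩, y, hy, h2⟩ := hc
  obtain ⟨a, b, c, rfl⟩ := hX hx
  obtain ⟨a', b', c', rfl⟩ := hX hy
  have k1 : b ≠ 0 := fun e => h1 ⟨a, c, by rw [e]⟩
  have k2 : a' ≠ 0 := fun e => h2 (Γ.mem_V'.2 ⟨b', c', by rw [e]⟩)
  have k3 := h _ _ _ (Γ.u_mul .. ▸ mul_mem hx hy)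
  rw [(mul_eq_zero.1 (h _ _ _ hx)).resolve_right k1, (mul_eq_zero.1 (h _ _ _ hy)).resolve_left k2, zero_add,
    add_zero] at k3
  exact mul_ne_zero k2 k1 k3

theorem card_fix {X : Subgroup G} (hX : X ≤ Γ.Y) {γ : F4} (h : ∀ c, Γ.z c ∈ X → γ * (c * c) = c) :
    Nat.card X ≤ 2 := by
  have := card_le_two (D := X) (A := ⊥) fun d hd d' hd' h1 h2 => by
    obtain ⟨c, rfl⟩ := hX hd
    obtain ⟨c', rfl⟩ := hX hd'
    rw [mem_bot, Γ.z_eq_one] at h1 h2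
    have key : ∀ γ c c' : F4, γ * (c * c) = c → γ * (c' * c') = c' → c ≠ 0 → c' ≠ 0 → c = c' := by decide
    rw [key _ _ _ (h c hd) (h c' hd') h1 h2, inv_mul_cancel]
    exact one_mem _
  simpa using this

end RK

open RK

namespace Lz

variable (Γ : Lz G)

/-- PROOF. `D₀ = D ⊓ (K ⊔ U)`, `E = {x ∈ U | ∃ k ∈ K, k x ∈ D}`; `|D₀| = |E| |D ⊓ K|`; `E` is elementary abelian,
so `E ≤ V` or `E ≤ Γ.sw.V`. `d ↦ (s, σ)` (`exists_ty`, `Ty.mul`, `Ty.unique`) has kernel `D₀` (`Ty.inner`), so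
`|D : D₀| ≤ 4`. If `D = D₀` then `|E| ≤ 16` with equality only for `E = V`, `Γ.sw.V`. Otherwise `t ∈ D ∖ D₀`
centralises `E` (`[t, k x] ∈ K`, so `[t, x] ∈ K ⊓ L = 1`). Type `(false, true)`: `|E| ≤ 2 * 2`; type
`(true, false)`: `E ≤ Y`; type `(true, true)`: `E ≤ C_Y(t)`, `|E| ≤ 2`, and this type occurs if `|D : D₀| = 4`.
So `|D : D ⊓ K| ≤ 8`. -/
theorem rk {D : Subgroup G} (hN : D ≤ Γ.N) (hU : D ≤ normalizer (Γ.U : Set G)) (h2 : ∀ d ∈ D, d * d ∈ Γ.K) :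
    Nat.card D ≤ 8 * Nat.card ↥(D ⊓ Γ.K) ∨
      (Nat.card D = 16 * Nat.card ↥(D ⊓ Γ.K) ∧ (Γ.Cov D Γ.V ∨ Γ.Cov D Γ.sw.V)) := by
  have hc := card_cov Γ (cov_E Γ D) fun x hx => hx.1
  rw [inf_assoc, inf_eq_right.2 (le_sup_left : Γ.K ≤ Γ.K ⊔ Γ.U)] at hc
  have ex : ∀ d, ∃ s σ α β, d ∈ D → Γ.Ty d s σ α β := fun d => by
    by_cases hd : d ∈ D
    · obtain ⟨s, σ, α, β, h⟩ := Γ.exists_ty (hU hd)
      exact ⟨s, σ, α, β, fun _ => h⟩
    · exact ⟨true, true, 0, 0, fun h => absurd h hd⟩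
  choose s σ α β T using ex
  have inn : ∀ d ∈ D, s d = false → σ d = false → d ∈ D ⊓ (Γ.K ⊔ Γ.U) := fun d hd h1 h2' => by
    have := T d hd
    rw [h1, h2'] at this
    obtain ⟨k, hk, a, b, c, e⟩ := this.inner (hN hd) (k := 1) (by simpa [pow_two] using h2 d hd)
    exact ⟨hd, e ▸ mul_mem (mem_sup_left hk) (mem_sup_right (Γ.u_mem ..))⟩
  have hom : ∀ d ∈ D, ∀ d' ∈ D, s d' = xor (s d) (s (d⁻¹ * d')) ∧ σ d' = xor (σ d) (σ (d⁻¹ * d')) :=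
    fun d hd d' hd' => by
      obtain ⟨a, b, h⟩ := (T d hd).mul (T _ (mul_mem (inv_mem hd) hd'))
      rw [mul_inv_cancel_left] at h
      exact ⟨((T d' hd').unique h).1, ((T d' hd').unique h).2.1⟩
  have Eab : ∀ a b c, Γ.u a b c ∈ E Γ D → a * b = 0 := fun a b c ⟨_, k, hk, e⟩ => by
    have := h2 _ e
    rw [Γ.mul_mul _ _ hk (Γ.uL ..), mul_mem_cancel_left (mul_mem hk hk), Γ.u_sq] at this
    exact Γ.z_eq_one.1 (Γ.UK (Γ.u_mem ..) this)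
  have Ec : ∀ t ∈ D, ∀ a b c, Γ.u a b c ∈ E Γ D → t * Γ.u a b c * t⁻¹ = Γ.u a b c :=
    fun t ht a b c ⟨_, k, hk, e⟩ => cj_of_comm (cen_of Γ (hN ht) hk (Γ.u_mem ..) (cm_mem Γ hN h2 ht e))
  have EY : ∀ t ∈ D, s t = true → E Γ D ≤ Γ.Y := fun t ht h1 x hx => by
    obtain ⟨a, b, c, rfl⟩ := hx.1
    obtain ⟨d, hd⟩ := (T t ht).u a b c
    rw [Ec t ht a b c hx, h1] at hd
    obtain ⟨k1, k2, -⟩ := Γ.u_inj hd
    rcases mul_eq_zero.1 (Eab a b c hx) with rfl | rfl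
    · exact ⟨c, by rw [k2, Bas.fr_zero, mul_zero]⟩
    · exact ⟨c, by rw [k1, Bas.fr_zero, mul_zero]⟩
  have E2 : ∀ t ∈ D, σ t = true → Nat.card ↥(E Γ D ⊓ Γ.Y) ≤ 2 := fun t ht h1 =>
    card_fix Γ inf_le_right (γ := α t * β t) fun c hc => by
      have := (T t ht).z c
      rw [Ec t ht _ _ _ hc.1, h1] at this
      exact (Γ.z_inj this).symm
  have hs := side Γ (X := E Γ D) (fun x hx => hx.1) Eab
  by_cases h0 : D ≤ D ⊓ (Γ.K ⊔ Γ.U)
  · have h1 := cov_E Γ D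
    rw [← le_antisymm h0 inf_le_left] at hc h1
    have fin : ∀ V : Subgroup G, Nat.card V = 16 → E Γ D ≤ V → Nat.card D ≤ 8 * Nat.card ↥(D ⊓ Γ.K) ∨
        (Nat.card D = 16 * Nat.card ↥(D ⊓ Γ.K) ∧ Γ.Cov D V) := fun V hV h => by
      by_cases e : E Γ D = V
      · exact .inr ⟨by rw [hc, e, hV], e ▸ h1⟩
      · have := card_le_half h e
        exact .inl (hc ▸ Nat.mul_le_mul_right _ (by omega))
    rcases hs with h | h
    · exact (fin _ Γ.card_V h).imp_right (And.imp_right .inl)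
    · exact (fin _ Γ.sw.card_V h).imp_right (And.imp_right .inr)
  left
  by_cases h1 : ∃ t ∈ D, s t = true ∧ σ t = true
  · obtain ⟨t, ht, k1, k2⟩ := h1
    have k3 := E2 t ht k2
    rw [inf_eq_left.2 (EY t ht k1)] at k3
    have k4 := card_le_mul (D := D) (A := D ⊓ (Γ.K ⊔ Γ.U)) (fun d => (s d, σ d)) fun d hd d' hd' e => by
      obtain ⟨e1, e2⟩ := hom d hd d' hd'
      obtain ⟨e3, e4⟩ := Prod.mk.inj e
      rw [e3] at e1
      rw [e4] at e2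
      have key : ∀ a b : Bool, a = xor a b → b = false := by decide
      exact inn _ (mul_mem (inv_mem hd) hd') (key _ _ e1) (key _ _ e2)
    rw [hc] at k4
    simp only [Nat.card_eq_fintype_card, Fintype.card_prod, Fintype.card_bool] at k4
    calc _ ≤ _ := k4
      _ ≤ 2 * 2 * (2 * _) := Nat.mul_le_mul_left _ (Nat.mul_le_mul_right _ k3)
      _ = _ := by ring
  push Not at h1
  have k4 := card_le_two (D := D) (A := D ⊓ (Γ.K ⊔ Γ.U)) fun d hd d' hd' n1 n2 => by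
    obtain ⟨e1, e2⟩ := hom d hd d' hd'
    have hm := mul_mem (inv_mem hd) hd'
    have key : ∀ a b a' b' a'' b'' : Bool, a' = xor a a'' → b' = xor b b'' → (a = true → b ≠ true) →
        (a' = true → b' ≠ true) → (a'' = true → b'' ≠ true) → ¬ (a = false ∧ b = false) →
        ¬ (a' = false ∧ b' = false) → a'' = false ∧ b'' = false := by decide +kernel
    obtain ⟨e3, e4⟩ := key _ _ _ _ _ _ e1 e2 (h1 d hd) (h1 d' hd') (h1 _ hm) (fun h => n1 (inn d hd h.1 h.2))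
      fun h => n2 (inn d' hd' h.1 h.2)
    exact inn _ hm e3 e4
  obtain ⟨t, ht, nt⟩ := SetLike.not_le_iff_exists.1 h0
  have k3 : Nat.card (E Γ D) ≤ 4 := by
    cases hst : s t
    · have hσ : σ t = true := by
        by_contra h
        exact nt (inn t ht hst (by simpa using h))
      have k5 := E2 t ht hσ
      have k6 : ∀ a b c, Γ.u a b c ∈ E Γ D → α t * (a * a) = a ∧ β t * (b * b) = b := fun a b c hx => by
        obtain ⟨d, hd⟩ := (T t ht).u a b c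
        rw [Ec t ht a b c hx, hst, hσ] at hd
        exact ⟨(Γ.u_inj hd).1.symm, (Γ.u_inj hd).2.1.symm⟩
      have key : ∀ γ c c' : F4, γ * (c * c) = c → γ * (c' * c') = c' → c ≠ 0 → c' ≠ 0 → c = c' := by decide
      have k7 := card_le_two (D := E Γ D) (A := E Γ D ⊓ Γ.Y) fun d hd d' hd' n1 n2 => by
        refine ⟨(E Γ D).mul_mem (inv_mem hd) hd', ?_⟩
        rcases hs with h | h
        · obtain ⟨a, c, rfl⟩ := h hd
          obtain ⟨a', c', rfl⟩ := h hd'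
          rw [key _ _ _ (k6 _ _ _ hd).1 (k6 _ _ _ hd').1 (fun e => n1 ⟨hd, c, by rw [e]⟩)
            (fun e => n2 ⟨hd', c', by rw [e]⟩), inv_of_sq (Γ.v_sq ..), Γ.v_mul, add_self]
          exact Γ.z_mem _
        · obtain ⟨a, c, rfl⟩ := Γ.mem_V'.1 (h hd)
          obtain ⟨a', c', rfl⟩ := Γ.mem_V'.1 (h hd')
          rw [key _ _ _ (k6 _ _ _ hd).2 (k6 _ _ _ hd').2 (fun e => n1 ⟨hd, c, by rw [e]⟩)
            (fun e => n2 ⟨hd', c', by rw [e]⟩), Γ.u_inv, Γ.u_mul, add_self, add_self]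
          exact Γ.z_mem _
      omega
    · exact Γ.card_Y ▸ card_le_of_le (EY t ht hst)
  rw [hc] at k4
  calc _ ≤ _ := k4
    _ ≤ 2 * (4 * _) := Nat.mul_le_mul_left _ (Nat.mul_le_mul_right _ k3)
    _ = _ := by ring

/-- PROOF. `g` centralises `V` (`[g, k v] ∈ K` gives `[g, v] ∈ K ⊓ L`); `cenV`. -/
theorem Cov.cen {D : Subgroup G} (h : Γ.Cov D Γ.V) {g : G} (hg : g ∈ Γ.N)
    (e : ∀ d ∈ D, g * d * g⁻¹ * d⁻¹ ∈ Γ.K) : ∃ k ∈ Γ.K, ∃ a c, g = k * Γ.u a 0 c :=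
  Γ.cenV hg fun a c => by
    obtain ⟨d, hd, k, hk, rfl⟩ := h.2 _ (Γ.v_mem a c)
    exact cen_of Γ hg hk (Γ.u_mem ..) (e _ hd)

end Lz

end CL.SZ5
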