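import Cfsg.Agent.INV.SZ5.Tc
import Cfsg.Agent.INV.SZ5.Pw

/-! The non-split case: `T / Y` as the permutation module of `A₅`. -/

set_option autoImplicit false
set_option linter.unusedVariables false
set_option maxHeartbeats 400000
set_option linter.unusedSectionVars false

namespace CL.SZ5

open Subgroup CL.MSS Equiv

/-- the permutation induced by `w1 a` -/
def p1 : F4 → Perm (Fin 5)
  | .o => 1
  | .l => swap 1 2 * swap 3 4
  | .w => swap 1 3 * swap 2 4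
  | .v => swap 1 4 * swap 2 3

/-- the permutation induced by `w2 b` -/
def p2 : F4 → Perm (Fin 5)
  | .o => 1
  | .l => swap 0 2 * swap 3 4
  | .w => swap 0 3 * swap 2 4
  | .v => swap 0 4 * swap 2 3

namespace Tb

theorem bv_zero : ∀ l a b e : F4, bv (l, a, b, e) = 0 → l = 0 ∧ a = 0 ∧ b = 0 ∧ e = 0 := by decide +kernel
theorem bv_sum : ∀ l a b e : F4, ∑ i, bv (l, a, b, e) i = 0 := by decide +kernel
theorem bv_Q : ∀ l a b e : F4, Qf (bv (l, a, b, e)) = a * b + l * e := by decide +kernel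
theorem bv_sur : ∀ a b c d e : F4, a + b + c + d + e = 0 →
    bv (c + a + b + (d + a + b + F4.w * (c + a + b)), b, a, d + a + b + F4.w * (c + a + b)) = ![a, b, c, d, e] := by
  decide +kernel
theorem bv_B (l a b e l' a' b' e' : F4) :
    Bf (bv (l, a, b, e)) (bv (l', a', b', e')) = a * b' + b * a' + l * e' + e * l' := by
  have h2 : (2 : F4) = 0 := by decide
  have h3 : F4.v = F4.w + 1 := by decide
  have h4 : F4.w * F4.w = F4.w + 1 := by decide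
  simp only [Bf, bv, Fin.sum_univ_five, Matrix.cons_val, h3]
  grind
theorem bv_w1 : ∀ a₀ l a b e : F4, ∀ i, bv (l + 1 * a₀ * a₀ * b, a + a₀ * l + 1 * a₀ * a₀ * e + 1 * a₀ * a₀ * a₀ * b,
    b, e + a₀ * b) (p1 a₀ i) = bv (l, a, b, e) i := by decide +kernel
theorem bv_w2 : ∀ b₀ l a b e : F4, ∀ i, bv (l + 1 * b₀ * b₀ * a, a,
    b + b₀ * l + 1 * b₀ * b₀ * e + 1 * b₀ * b₀ * b₀ * a, e + b₀ * a) (p2 b₀ i) = bv (l, a, b, e) i := by decide +kernel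
theorem card_q : Fintype.card {p : F4 × F4 × F4 × F4 // ∀ i, bv p i * bv p i = bv p i} = 16 := by decide +kernel

/-- products of four -/
def q4 (a b c d : F4) : Perm (Fin 5) := p1 a * p2 b * p1 c * p2 d

theorem even_q4 : ∀ π : Perm (Fin 5), Perm.sign π = 1 → ∃ a b c d, ∀ i, π i = q4 a b c d i := by decide +kernel
theorem sing : ∀ l a b e : F4, a * b + l * e = 0 → (∀ i μ, bv (l, a, b, e) ≠ ff i μ) →
    ∃ p q r s, ∀ i, ![0, 0, 1, F4.w, F4.v] (q4 p q r s i) = bv (l, a, b, e) i := by decide +kernel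
theorem to0 : ∀ i, ∃ a b, q4 0 a b 0 i = 0 := by decide +kernel
theorem cen5 : ∀ π : Perm (Fin 5), (∀ i, π (p1 1 i) = p1 1 (π i)) → (∀ i, π (p1 F4.w i) = p1 F4.w (π i)) →
    (∀ i, π (p2 1 i) = p2 1 (π i)) → ∀ i, π i = i := by decide +kernel
theorem sign_p1 : ∀ a, Perm.sign (p1 a) = 1 := by decide +kernel
theorem sign_p2 : ∀ a, Perm.sign (p2 a) = 1 := by decide +kernel
theorem ff_sum : ∀ i μ, ∑ j, ff i μ j = 0 := by decide +kernel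
theorem ff_B : ∀ i j μ ν, Bf (ff i μ) (ff j ν) = if i = j then 0 else μ * ν := by decide +kernel
theorem B_ff : ∀ l a b e : F4, ∀ i, Bf (bv (l, a, b, e)) (ff i 1) = bv (l, a, b, e) i := by decide +kernel
theorem bv_inj {p q : F4 × F4 × F4 × F4} (e : bv p = bv q) : p = q := by
  obtain ⟨l, a, b, c⟩ := p
  obtain ⟨l', a', b', c'⟩ := q
  have k : ∀ x y : F4, x + y = 0 → x = y := by decide
  obtain ⟨h1, h2, h3, h4⟩ := bv_zero (l + l') (a + a') (b + b') (c + c') (by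
    rw [← Prod.mk_add_mk, ← Prod.mk_add_mk, ← Prod.mk_add_mk, Sz.bv_add, e]
    funext i; exact add_self _)
  rw [k _ _ h1, k _ _ h2, k _ _ h3, k _ _ h4]
theorem fr_sq : ∀ σ (a : F4), a * a = a → fr σ a * fr σ a = fr σ a := by decide
theorem fr_fr' : ∀ σ (a : F4), fr σ (fr σ a) = a := by decide
theorem fr_w : ∀ σ σ', fr σ F4.w = fr σ' F4.w → σ = σ' := by decide
theorem three : ∀ a b c : F4, a * b = 1 → a * c = 1 → b * c = 1 → a = 1 := by decide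
theorem two_more : ∀ i : Fin 5, ∃ j k, i ≠ j ∧ i ≠ k ∧ j ≠ k := by decide

end Tb

open Tb Bas

universe u
variable {G : Type u} [Group G] [Finite G]

namespace Sz

variable (Λ : Sz G)

omit [Finite G] in
theorem mem_R {x : G} : x ∈ Λ.R ↔ ∃ m, x = Λ.r m :=
  ⟨fun h => ⟨_, Λ.lam_eq h (Λ.rR _) (Λ.lam_r _).symm⟩, fun ⟨m, e⟩ => e ▸ Λ.rR m⟩
omit [Finite G] in
theorem r_mul (m m' : F4) : Λ.r m * Λ.r m' = Λ.r (m + m') :=
  Λ.lam_eq (mul_mem (Λ.rR _) (Λ.rR _)) (Λ.rR _) (by rw [Λ.lam_mul _ (Λ.rR _) _ (Λ.rR _), Λ.lam_r, Λ.lam_r, Λ.lam_r])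
omit [Finite G] in
theorem r_eq_one {m : F4} : Λ.r m = 1 ↔ m = 0 :=
  ⟨fun e => by rw [← Λ.lam_r m, e, Λ.lam_1], fun e => Λ.lam_inj _ (Λ.rR _) (by rw [Λ.lam_r, e])⟩
omit [Finite G] in
theorem β_u (a b c : F4) : Λ.β (Λ.u a b c) = ![b, a, a + b, a + b, a + b] := by
  rw [β, Λ.cl_u]; simp [bv]
omit [Finite G] in
theorem β_r (m : F4) : Λ.β (Λ.r m) = ![0, 0, m, m * F4.w, m * F4.v] := by
  rw [β, Λ.cl_r (Λ.rR m), Λ.lam_r]; simp [bv]
omit [Finite G] in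
theorem β_y (η : F4) : Λ.β (Λ.y η) = ![0, 0, η, η * F4.v, η * F4.w] := by
  rw [β, Λ.cl_y]; simp [bv]
omit [Finite G] in
theorem β_sum (x : G) : ∑ i, Λ.β x i = 0 := bv_sum ..
omit [Finite G] in
theorem β_el (m a b c η : F4) : Λ.β (Λ.el (Λ.r m) a b c η) = bv (m, a, b, η) := by
  rw [β, Λ.cl_el (Λ.rR m), Λ.lam_r]
omit [Finite G] in
theorem β_surj {γ : V5} (h : ∑ i, γ i = 0) : ∃ x ∈ Λ.T, Λ.β x = γ := by
  rw [Fin.sum_univ_five] at h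
  refine ⟨_, Λ.el_mem (Λ.rR _) _ _ 0 _, (Λ.β_el ..).trans ((bv_sur _ _ _ _ _ h).trans ?_)⟩
  funext i; fin_cases i <;> rfl
omit [Finite G] in
theorem eq_of_β {x x' : G} (hx : x ∈ Λ.T) (hx' : x' ∈ Λ.T) (e : Λ.β x = Λ.β x') : ∃ c, x' = x * Λ.z c :=
  Co.eq_of_cl hx hx' (bv_inj e)
omit [Finite G] in
theorem β_eq_zero {x : G} (hx : x ∈ Λ.T) : Λ.β x = 0 ↔ x ∈ Λ.Y := by
  rw [← Co.cl_eq_zero hx]
  exact ⟨fun e => bv_inj (e.trans (by decide)), fun e => by rw [β, e]; decide⟩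
omit [Finite G] in
theorem sq_β {x : G} (hx : x ∈ Λ.T) : x * x = Λ.z (Qf (Λ.β x)) := by
  rw [Co.sq_T hx, β, ← bv_Q]
omit [Finite G] in
theorem comm_β {x x' : G} (hx : x ∈ Λ.T) (hx' : x' ∈ Λ.T) :
    x * x' * x⁻¹ = x' * Λ.z (Bf (Λ.β x) (Λ.β x')) := by
  rw [Co.comm_T hx hx', β, β, ← bv_B]
omit [Finite G] in
/-- coordinates on `T` -/
noncomputable def eqv : (F4 × F4 × F4 × F4) × F4 ≃ Λ.T :=
  Equiv.ofBijective (fun p => ⟨Λ.el (Λ.r p.1.1) p.1.2.1 p.1.2.2.1 p.2 p.1.2.2.2, Λ.el_mem (Λ.rR _) ..⟩)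
    ⟨fun p q e => by
      obtain ⟨h1, h2, h3, h4, h5⟩ := Λ.el_inj (Λ.rR _) (Λ.rR _) (congrArg Subtype.val e)
      exact Prod.ext (Prod.ext (by rw [← Λ.lam_r p.1.1, h1, Λ.lam_r]) (Prod.ext h2 (Prod.ext h3 h5))) h4,
    fun ⟨_, r, hr, a, b, c, η, e⟩ => let ⟨m, e'⟩ := Λ.mem_R.1 hr
      ⟨((m, a, b, η), c), Subtype.ext (e.trans (congrArg (Λ.el · a b c η) e')).symm⟩⟩
omit [Finite G] in
theorem card_T : Nat.card Λ.T = 1024 := by
  rw [← Nat.card_congr Λ.eqv]; simp [F4.card_eq]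
omit [Finite G] in
theorem card_Qy : Nat.card Λ.Qy = 64 := by
  have : Nat.card ({p : F4 × F4 × F4 × F4 // ∀ i, bv p i * bv p i = bv p i} × F4) = 64 := by
    rw [Nat.card_prod, Nat.card_eq_fintype_card, card_q]; simp [F4.card_eq]
  rw [← this]
  refine (Nat.card_congr (Equiv.ofBijective (fun p => (⟨Λ.eqv (p.1.1, p.2), (Λ.eqv _).2, fun i => by
    have : Λ.β (Λ.eqv (p.1.1, p.2)) = bv p.1.1 := Λ.β_el ..
    rw [this]; exact p.1.2 i⟩ : Λ.Qy)) ⟨fun p q e => ?_, fun x => ?_⟩)).symm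
  · have := Λ.eqv.injective (a₁ := (p.1.1, p.2)) (a₂ := (q.1.1, q.2)) (Subtype.ext (congrArg Subtype.val e :))
    exact Prod.ext (Subtype.ext (Prod.ext_iff.1 this).1) (Prod.ext_iff.1 this).2
  · obtain ⟨⟨p, c⟩, e⟩ := Λ.eqv.surjective ⟨x, x.2.1⟩
    have e' := congrArg Subtype.val e
    have : Λ.β (Λ.eqv (p, c)) = bv p := Λ.β_el ..
    exact ⟨(⟨p, by rw [← this, e']; exact x.2.2⟩, c), Subtype.ext e'⟩

theorem act_T {x : G} (hx : x ∈ Λ.T) : Λ.Act x 1 false :=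
  ⟨le_normalizer hx, fun y hy i => by
    rw [Λ.β_mul (mul_mem hx hy) (inv_mem hx), Λ.β_mul hx hy, Λ.β_inv hx]
    simp only [Pi.add_apply, Perm.one_apply, fr_false]
    linear_combination add_self (Λ.β x i), fun c => cj_of_comm (Co.z_T hx c)⟩
theorem act_O {o : G} (ho : o ∈ Λ.O) : Λ.Act o 1 false :=
  ⟨centralizer_le_normalizer _ fun _ hx => Co.T_O hx ho, fun y hy i => by
    rw [cj_of_comm (Co.T_O hy ho).symm]; rfl, fun c => cj_of_comm (Co.T_O (Λ.uT ..) ho).symm⟩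
theorem act_w1 (a : F4) : Λ.Act (Λ.w1 a) (p1 a) false :=
  ⟨Λ.w1_norm a, fun y hy i => by rw [β, (Λ.w1_cl a hy).2, Λ.e1]; exact bv_w1 .., fun c => cj_of_comm (Λ.w1_v ..)⟩
theorem act_w2 (b : F4) : Λ.Act (Λ.w2 b) (p2 b) false :=
  ⟨mem_normalizer_fintype fun _ hx => (Λ.w2_cl b hx).1, fun y hy i => by
    rw [β, (Λ.w2_cl b hy).2, Λ.e2]; exact bv_w2 .., fun c => by
    have := Λ.sw.w1_v b 0 c
    rw [show Λ.sw.u 0 0 c = Λ.z c from Λ.toLz.sw_z c] at this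
    exact cj_of_comm this⟩

variable {Λ} in
omit [Finite G] in
theorem Act.mul {g g' : G} {π π' : Perm (Fin 5)} {σ σ' : Bool} (h : Λ.Act g π σ) (h' : Λ.Act g' π' σ') :
    Λ.Act (g * g') (π * π') (xor σ σ') :=
  ⟨mul_mem h.norm h'.norm, fun x hx i => by
    rw [← cj_cj, Perm.mul_apply, h.act _ ((mem_normalizer_iff.1 h'.norm x).1 hx), h'.act x hx, fr_fr], fun c => by
    rw [← cj_cj, h'.z, h.z, fr_fr]⟩
variable {Λ} in
omit [Finite G] in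
theorem Act.inv {g : G} {π : Perm (Fin 5)} {σ : Bool} (h : Λ.Act g π σ) : Λ.Act g⁻¹ π⁻¹ σ :=
  ⟨inv_mem h.norm, fun x hx i => by
    have := h.act _ ((mem_normalizer_iff.1 (inv_mem h.norm) x).1 hx) (π⁻¹ i)
    rw [cj_cj, mul_inv_cancel, ← Perm.mul_apply, mul_inv_cancel] at this
    rw [← fr_fr' σ (Λ.β _ (π⁻¹ i)), ← this]; simp, fun c => by
    rw [← fr_fr' σ c, ← h.z, fr_fr']; group⟩
variable {Λ} in
omit [Finite G] in
theorem Act.unique {g : G} {π π' : Perm (Fin 5)} {σ σ' : Bool} (h : Λ.Act g π σ) (h' : Λ.Act g π' σ') :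
    π = π' ∧ σ = σ' := by
  refine ⟨Equiv.ext fun i => ?_, fr_w _ _ (Λ.z_inj ((h.z _).symm.trans (h'.z _)))⟩
  obtain ⟨x, hx, e⟩ := Λ.β_surj (ff_sum i 1)
  have e1 := h.act x hx i
  obtain ⟨j, k⟩ := π'.surjective (π i)
  rw [← k, h'.act x hx, e] at e1
  by_contra n
  have : j ≠ i := fun m => n (by rw [← k, m])
  simp [ff, this, fr_zero, fr_one] at e1
variable {Λ} in
omit [Finite G] in
theorem Act.conj_T {g x : G} {π : Perm (Fin 5)} {σ : Bool} (h : Λ.Act g π σ) (hx : x ∈ Λ.T) :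
    g * x * g⁻¹ ∈ Λ.T := (mem_normalizer_iff.1 h.norm x).1 hx
variable {Λ} in
omit [Finite G] in
theorem Act.conj_Qy {g x : G} {π : Perm (Fin 5)} {σ : Bool} (h : Λ.Act g π σ) (hx : x ∈ Λ.Qy) :
    g * x * g⁻¹ ∈ Λ.Qy := ⟨h.conj_T hx.1, fun i => by
  obtain ⟨j, rfl⟩ := π.surjective i
  rw [h.act x hx.1]; exact fr_sq _ _ (hx.2 j)⟩

theorem act_q4 (a b c d : F4) : Λ.Act (Λ.w1 a * Λ.w2 b * Λ.w1 c * Λ.w2 d) (q4 a b c d) false :=
  (((Λ.act_w1 a).mul (Λ.act_w2 b)).mul (Λ.act_w1 c)).mul (Λ.act_w2 d)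

/-- Every even permutation is a product of four. -/
theorem act_even {π : Perm (Fin 5)} (h : Perm.sign π = 1) : ∃ g, Λ.Act g π false ∧ ∀ o ∈ Λ.O, g * o = o * g := by
  obtain ⟨a, b, c, d, e⟩ := even_q4 π h
  obtain rfl := Equiv.ext e
  exact ⟨_, Λ.act_q4 a b c d, fun o ho => (Commute.mul_left (.mul_left (.mul_left (Λ.w1_O a ho) (Λ.sw.w1_O b ho))
    (Λ.w1_O c ho)) (Λ.sw.w1_O d ho)).eq⟩

variable {Λ} in
/-- `Co.ker`; `bv` is injective. -/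
theorem Act.ker {g : G} (h : Λ.Act g 1 false) : ∃ x ∈ Λ.T, ∃ o ∈ Λ.O, g = x * o :=
  Λ.toCo.ker fun x hx => ⟨h.conj_T hx, bv_inj (funext (h.act x hx))⟩

variable {Λ} in
theorem Act.mem_T {g : G} (h : Λ.Act g 1 false) {k : ℕ} (e : g ^ 2 ^ k = 1) : g ∈ Λ.T := by
  obtain ⟨x, hx, o, ho, rfl⟩ := h.ker
  obtain ⟨n, e'⟩ := pow_two_of_mem Co.pT hx
  have c : Commute x o := Co.T_O hx ho
  have : o ^ 2 ^ (k + n) = 1 := by
    have := congrArg (· ^ 2 ^ n) e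
    simp only [one_pow] at this
    rwa [← pow_mul, c.mul_pow, mul_comm (2 ^ k), pow_mul, e', one_pow, one_mul, mul_comm, ← pow_add] at this
  rwa [Pw.O_two Λ.toEl ho this, mul_one]

/-- A singular vector of sum zero is `0`, some `ff i μ`, or an even permutation of `β (r 1)`. -/
theorem K_vec {x : G} (hx : x ∈ Λ.T) (x2 : x * x = 1) (hY : x ∉ Λ.Y) (h : ∀ i μ, Λ.β x ≠ ff i μ) :
    ∃ n π c, Λ.Act n π false ∧ n * x * n⁻¹ = Λ.r 1 * Λ.z c := by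
  rw [Co.sq_T hx, Λ.z_eq_one] at x2
  obtain ⟨p, q, r, s, e⟩ := sing _ _ _ _ x2 h
  have a := Λ.act_q4 p q r s
  obtain ⟨c, e'⟩ := Λ.eq_of_β (Λ.r_mem (Λ.rR 1)) (a.conj_T hx) (funext fun i => by
    obtain ⟨j, rfl⟩ := (q4 p q r s).surjective i
    rw [a.act x hx, β_r, one_mul, one_mul, e]; rfl)
  exact ⟨_, _, c, a, e'⟩

theorem Ap_iff {x : G} (hx : x ∈ Λ.T) (hY : x ∉ Λ.Y) : Λ.Ap x ↔ ∃ i μ, μ ≠ 0 ∧ Λ.β x = ff i μ := by
  constructor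
  · intro h
    by_contra! n
    obtain ⟨m, π, c, -, e⟩ := Λ.K_vec hx h.sq hY fun i μ e => n i μ (fun k => hY ((Λ.β_eq_zero hx).1 (by
      rw [e, k]; funext j; simp [ff]))) e
    have r1 : Λ.r 1 ≠ 1 := mt Λ.r_eq_one.1 one_ne_zero
    obtain ⟨g, k⟩ := isConj_iff.1 (Λ.Kp_rv (Λ.rR 1) r1 0 c)
    have := h.cj m
    rw [e, ← k] at this
    exact Λ.not_Ap (Lz.Kp.cj ⟨Λ.Rsq _ (Λ.rR 1), r1, 1, by simpa using Λ.RK' (Λ.rR 1)⟩ g) this
  · rintro ⟨i, μ, h, e⟩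
    obtain ⟨a', b, k⟩ := to0 i
    have a := Λ.act_q4 0 a' b 0
    obtain ⟨c, e'⟩ := Λ.eq_of_β (Λ.uT μ 0 0) (a.conj_T hx) (funext fun j => by
      rw [show Λ.β (Λ.u μ 0 0) = ff 0 μ by rw [β_u]; funext j; fin_cases j <;> simp [ff], ← k]
      obtain ⟨j, rfl⟩ := (q4 0 a' b 0).surjective j
      rw [a.act x hx, e]; simp [ff, fr_false])
    obtain ⟨m, -, -, em⟩ := Λ.conj_V (a := μ) (c := 0 + c) (.inl h)
    have : Λ.Ap _ := isConj_iff.2 ⟨m, em⟩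
    rw [← Λ.u_mul_z, ← e'] at this
    simpa [mul_assoc] using this.cj (Λ.w1 0 * Λ.w2 a' * Λ.w1 b * Λ.w2 0)⁻¹

theorem exists_act {g : G} (hg : g ∈ normalizer (Λ.T : Set G)) (hz : g * Λ.z 1 = Λ.z 1 * g) :
    ∃ π σ, Λ.Act g π σ := by
  have cT : ∀ {x}, x ∈ Λ.T → g * x * g⁻¹ ∈ Λ.T := fun {x} => (mem_normalizer_iff.1 hg x).1
  have : ∀ c, ∃ d, g * Λ.z c * g⁻¹ = Λ.z d := fun c =>
    ⟨_, by rw [← Λ.sq_β (cT (Λ.uT c 1 0)), ← cj_mul', Λ.u_sq, mul_one]⟩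
  choose e he using this
  obtain ⟨σ, hσ⟩ := add_inj (AddMonoidHom.mk' e fun a b => Λ.z_inj (by rw [← he, ← Λ.z_mul, cj_mul', he, he, Λ.z_mul]))
    fun a b k => Λ.z_inj (by
      have : g * Λ.z a * g⁻¹ = g * Λ.z b * g⁻¹ := by rw [he, he]; exact congrArg _ k
      simpa using this)
  have e1 : e 1 = 1 := Λ.z_inj (by rw [← he, cj_of_comm hz])
  have hz' : ∀ c, g * Λ.z c * g⁻¹ = Λ.z (fr σ c) := fun c => by
    rw [he]; exact congrArg _ ((hσ c).trans (by rw [AddMonoidHom.mk'_apply, e1, one_mul]))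
  have hB : ∀ {x x'}, x ∈ Λ.T → x' ∈ Λ.T →
      Bf (Λ.β (g * x * g⁻¹)) (Λ.β (g * x' * g⁻¹)) = fr σ (Bf (Λ.β x) (Λ.β x')) := fun {x x'} hx hx' =>
    Λ.z_inj (mul_left_cancel (a := g * x' * g⁻¹) (by
      rw [← Λ.comm_β (cT hx) (cT hx'), ← hz', ← cj_mul' g x', ← Λ.comm_β hx hx']; group))
  choose x hx ex using fun i => Λ.β_surj (ff_sum i 1)
  have nY : ∀ i, x i ∉ Λ.Y := fun i k => by
    obtain ⟨j, -, n, -⟩ := two_more i
    have := congrFun ((ex i).symm.trans ((Λ.β_eq_zero (hx i)).2 k)) j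
    simp [ff, n.symm] at this
  have : ∀ i, ∃ j μ, μ ≠ 0 ∧ Λ.β (g * x i * g⁻¹) = ff j μ := fun i =>
    (Λ.Ap_iff (cT (hx i)) fun ⟨c, k⟩ => nY i ⟨fr σ c, by
      rw [← fr_fr' σ c, ← hz'] at k; simpa using k⟩).1 (((Λ.Ap_iff (hx i) (nY i)).2 ⟨i, 1, one_ne_zero, ex i⟩).cj g)
  choose π φ _ hπ using this
  have k : ∀ i j, i ≠ j → π i ≠ π j ∧ φ i * φ j = 1 := fun i j n => by
    have := hB (hx i) (hx j)
    rw [hπ, hπ, ex, ex, ff_B, ff_B, if_neg n, one_mul, fr_one] at this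
    by_cases h : π i = π j
    · rw [if_pos h] at this; exact absurd this zero_ne_one
    · rw [if_neg h] at this; exact ⟨h, this⟩
  have k1 : ∀ i, φ i = 1 := fun i => let ⟨j, l, n1, n2, n3⟩ := two_more i
    three _ _ _ (k _ _ n1).2 (k _ _ n2).2 (k _ _ n3).2
  refine ⟨Equiv.ofBijective π (Finite.injective_iff_bijective.1 fun i j => not_imp_not.1 fun n => (k i j n).1), σ,
    hg, fun y hy i => ?_, hz'⟩
  have := hB hy (hx i)
  rwa [hπ, ex, k1, β, β, B_ff, B_ff] at this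

theorem exists_hom : ∃ Φ : ↥(normalizer (Λ.T : Set G) ⊓ centralizer {Λ.z 1}) →* Perm (Fin 5),
    ∀ g, ∃ σ, Λ.Act g.1 (Φ g) σ := by
  choose π σ h using fun g : ↥(normalizer (Λ.T : Set G) ⊓ centralizer {Λ.z 1}) =>
    Λ.exists_act (mem_inf.1 g.2).1 (mem_centralizer_singleton_iff.1 (mem_inf.1 g.2).2)
  exact ⟨MonoidHom.mk' π fun a b => ((h (a * b)).unique ((h a).mul (h b))).1, fun g => ⟨_, h g⟩⟩

theorem nrm5 {M : Subgroup G} (hM : ∀ n π, Λ.Act n π false → n ∈ normalizer (M : Set G)) (hT : Λ.T ≤ M) {n : G}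
    (hn : n ∈ M) {π : Perm (Fin 5)} (h : Λ.Act n π false) (h1 : π ≠ 1) (a : F4) : Λ.w1 a ∈ M := by
  let D : Subgroup (alternatingGroup (Fin 5)) :=
    { carrier := {ρ | ∃ m ∈ M, Λ.Act m ρ.1 false}
      one_mem' := ⟨1, one_mem _, Λ.act_T (one_mem _)⟩
      mul_mem' := fun ⟨m, hm, e⟩ ⟨m', hm', e'⟩ => ⟨_, mul_mem hm hm', e.mul e'⟩
      inv_mem' := fun ⟨m, hm, e⟩ => ⟨_, inv_mem hm, e.inv⟩ }
  have hD : D.Normal := ⟨fun ρ ⟨m, hm, e⟩ τ => by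
    obtain ⟨g, hg, -⟩ := Λ.act_even (Perm.mem_alternatingGroup.1 τ.2)
    exact ⟨_, (mem_normalizer_iff.1 (hM _ _ hg) m).1 hm, (hg.mul e).mul hg.inv⟩⟩
  have k : ∀ ρ : Perm (Fin 5), Perm.sign ρ = 1 → D = ⊥ → ∀ i, π (ρ i) = ρ (π i) := fun ρ hρ e i => by
    obtain ⟨g, hg, -⟩ := Λ.act_even hρ
    have : (⟨π⁻¹ * (ρ⁻¹ * π * ρ⁻¹⁻¹), Perm.mem_alternatingGroup.2 (by simp [hρ])⟩ : alternatingGroup (Fin 5)) ∈ D :=
      ⟨_, mul_mem (inv_mem hn) ((mem_normalizer_iff.1 (inv_mem (hM _ _ hg)) n).1 hn),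
        h.inv.mul ((hg.inv.mul h).mul hg.inv.inv)⟩
    rw [e, mem_bot, Subtype.ext_iff] at this
    have : π * ρ = ρ * π := by
      simp only [coe_one, inv_mul_eq_one, inv_inv, mul_assoc, eq_inv_mul_iff_mul_eq] at this
      exact this.symm
    exact congrArg (· i) this
  rcases hD.eq_bot_or_eq_top with e | e
  · exact absurd (Equiv.ext (cen5 π (k _ (sign_p1 _) e) (k _ (sign_p1 _) e) (k _ (sign_p2 _) e))) h1
  obtain ⟨m, hm, em⟩ : (⟨p1 a, Perm.mem_alternatingGroup.2 (sign_p1 a)⟩ : alternatingGroup (Fin 5)) ∈ D := by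
    rw [e]; trivial
  have := (Λ.act_w1 a).inv.mul em
  rw [inv_mul_cancel] at this
  obtain ⟨x, hx, o, ho, e'⟩ := Act.ker this
  have m1 : Λ.w1 a * o ∈ M := by
    rw [Co.T_O hx ho, inv_mul_eq_iff_eq_mul, ← mul_assoc] at e'
    exact (M.mul_mem_cancel_right (hT hx)).1 (by rw [← e']; exact hm)
  have := pow_mem m1 (Nat.card Λ.O)
  obtain ⟨j, ej⟩ := Λ.Oodd
  have w2 : Λ.w1 a ^ 2 = 1 := by rw [pow_two, Λ.w1_mul, add_self, Co.w1, Lz.w, Λ.y_zero]; group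
  rwa [(show Commute _ _ from Λ.w1_O a ho).mul_pow, Pw.O_pow Λ.toEl ho, mul_one, ej, pow_succ, pow_mul, w2, one_pow,
    one_mul] at this

end Sz

end CL.SZ5
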